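import Cfsg.Agent.Lib.Grp.GTwoCent.Fuse
import Cfsg.Prelude

/-!
# Each side is strongly closed in the Sylow 2-subgroup
-/

set_option autoImplicit false

namespace Cfsg.Agent.Grp.GTwoSylow

open Subgroup Rel Frame

namespace Frame

variable {T : Type*} [Group T] (e : Frame T)

theorem dd_pow (c : ZMod e.N) : ∀ j : ℕ, (e.dd c) ^ j = e.dd ((j : ZMod e.N) * c)
  | 0 => by rw [pow_zero, Nat.cast_zero, zero_mul, dd_zero]
  | j + 1 => by rw [pow_succ, dd_pow c j, dd_mul_dd, Nat.cast_succ, add_mul, one_mul]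

theorem half_mul (c : ZMod e.N) : e.m * (c + c) = 0 := by
  linear_combination c * e.m_add_m

theorem m_mul_m : e.m * e.m = 0 := by
  linear_combination e.half_mul e.q - e.m * e.q_add_q

theorem card_base : Nat.card ↥e.base = e.N * e.N := by
  let f : ZMod e.N × ZMod e.N → ↥e.base := fun v => ⟨e.pt v.1 v.2, e.pt_mem_base _ _⟩
  have hf : Function.Bijective f := ⟨fun v w h => by
      obtain ⟨h1, h2⟩ := e.pt_inj.1 (congrArg Subtype.val h)
      exact Prod.ext h1 h2,
    fun g => by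
      obtain ⟨a, b, h⟩ := e.mem_base.1 g.2
      exact ⟨(a, b), Subtype.ext h.symm⟩⟩
  rw [← Nat.card_congr (Equiv.ofBijective f hf), Nat.card_prod, Nat.card_zmod]

theorem four_le : 4 ≤ e.N := by
  have : 2 ^ 2 ≤ 2 ^ e.k := Nat.pow_le_pow_right two_pos e.hk
  simpa [Rel.N] using this

theorem dd_swap_ww (c a : ZMod e.N) :
    e.dd c * e.swap.ww a = e.pt (c + a) (c + (e.m - a)) * e.s := by
  rw [swap_ww, dd, e.pt_mul']

theorem base_comm {g h : T} (hg : g ∈ e.base) (hh : h ∈ e.base) : g * h = h * g := by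
  obtain ⟨a, b, rfl⟩ := e.mem_base.1 hg
  obtain ⟨c, d, rfl⟩ := e.mem_base.1 hh
  rw [e.pt_mul, e.pt_mul, add_comm a, add_comm b]

end Frame

namespace Cfg

variable {X : Type*} [Group X] [Finite X] {S : Sylow 2 X} (D : Cfg S)

/-- The first side, inside `X`. -/
def sideX : Subgroup X := D.e.side.map (S : Subgroup X).subtype

omit [Finite X] in
theorem coe_mem_sideX {p : ↥(S : Subgroup X)} : (p : X) ∈ D.sideX ↔ p ∈ D.e.side :=
  Subgroup.mem_map_iff_mem (Subgroup.subtype_injective _)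

omit [Finite X] in
theorem sideX_le : D.sideX ≤ (S : Subgroup X) := Subgroup.map_subtype_le _

/-- The abelian part, inside `X`. -/
noncomputable def baseX : Subgroup X := D.e.base.map (S : Subgroup X).subtype

omit [Finite X] in
theorem coe_mem_baseX {p : ↥(S : Subgroup X)} : (p : X) ∈ D.baseX ↔ p ∈ D.e.base :=
  Subgroup.mem_map_iff_mem (Subgroup.subtype_injective _)

omit [Finite X] in
theorem conj_eq_of_pow_two {g : X} {o : ℕ} (ho : Odd o) (hg : g ^ o = 1) {x : X}
    (h : g * (g * x * g⁻¹) * g⁻¹ = x) : g * x * g⁻¹ = x := by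
  have hc : Commute (g * g) x := by
    show g * g * x = x * (g * g)
    calc g * g * x = g * (g * x * g⁻¹) * g⁻¹ * (g * g) := by group
      _ = x * (g * g) := by rw [h]
  obtain ⟨j, rfl⟩ := ho
  have h1 : g = ((g * g) ^ j)⁻¹ := by
    refine eq_inv_of_mul_eq_one_left ?_
    rw [← pow_two, ← pow_mul, ← pow_succ', hg]
  have h2 : Commute g x := h1 ▸ (hc.pow_left j).inv_left
  exact mul_inv_eq_iff_eq_mul.2 h2.eq

omit [Finite X] in
/-- An element of odd order normalizing the abelian part centralizes it. -/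
theorem odd_centralizes {g : X} {o : ℕ} (ho : Odd o) (hg : g ^ o = 1)
    (hgB : ∀ b ∈ D.baseX, g * b * g⁻¹ ∈ D.baseX) : ∀ b ∈ D.baseX, g * b * g⁻¹ = b := by
  have hinv : ∀ b ∈ D.baseX, b * b = 1 → g * b * g⁻¹ = b := by
    intro b hb hb2
    have key : ∀ c ∈ D.baseX, c * c = 1 →
        c = 1 ∨ c = D.e.z ∨ c = D.e.t ∨ c = (D.e.pt 0 D.e.m : X) := by
      rintro _ ⟨p, hp, rfl⟩ hc
      obtain ⟨a, b, rfl⟩ := D.e.mem_base.1 hp
      have h : D.e.pt a b * D.e.pt a b = 1 := Subtype.ext hc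
      rw [D.e.pt_mul, D.e.pt_eq_one_iff, D.e.two_eq_zero_iff, D.e.two_eq_zero_iff] at h
      obtain ⟨rfl | rfl, rfl | rfl⟩ := h
      · exact Or.inl (by rw [D.e.pt_zero]; rfl)
      · exact Or.inr (Or.inr (Or.inr rfl))
      · exact Or.inr (Or.inr (Or.inl rfl))
      · exact Or.inr (Or.inl rfl)
    have hcl : ∀ c ∈ D.baseX, c * c = 1 → (g * c * g⁻¹) * (g * c * g⁻¹) = 1 := fun c _ h => by
      calc g * c * g⁻¹ * (g * c * g⁻¹) = g * (c * c) * g⁻¹ := by group
        _ = 1 := by rw [h]; group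
    have h1 := key _ (hgB b hb) (hcl b hb hb2)
    have h2 := key _ (hgB _ (hgB b hb)) (hcl _ (hgB b hb) (hcl b hb hb2))
    have hinj : ∀ {x y : X}, g * x * g⁻¹ = g * y * g⁻¹ → x = y := fun h => by simpa using h
    have hfix1 : g * (1 : X) * g⁻¹ = 1 := by group
    have hfixz : g * (D.e.z : X) * g⁻¹ = D.e.z := by rw [D.zc g]; group
    rcases key b hb hb2 with h | h | h | h
    · rw [h, hfix1]
    · rw [h, hfixz]
    all_goals
      refine conj_eq_of_pow_two ho hg ?_
      have hb1 : b ≠ 1 ∧ b ≠ D.e.z := by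
        rw [h]
        constructor <;> intro h' <;> first
          | exact D.e.m_ne_zero (D.e.pt_eq_one_iff.1 (Subtype.ext h')).1
          | exact D.e.m_ne_zero (D.e.pt_eq_one_iff.1 (Subtype.ext h')).2
          | exact D.e.m_ne_zero (D.e.pt_inj.1 (Subtype.ext h')).2.symm
          | exact D.e.m_ne_zero (D.e.pt_inj.1 (Subtype.ext h')).1.symm
      have hb2' : g * b * g⁻¹ ≠ 1 ∧ g * b * g⁻¹ ≠ D.e.z :=
        ⟨fun h' => hb1.1 (hinj (h'.trans hfix1.symm)), fun h' => hb1.2 (hinj (h'.trans hfixz.symm))⟩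
      have hb3 : g * (g * b * g⁻¹) * g⁻¹ ≠ 1 ∧ g * (g * b * g⁻¹) * g⁻¹ ≠ D.e.z :=
        ⟨fun h' => hb2'.1 (hinj (h'.trans hfix1.symm)),
          fun h' => hb2'.2 (hinj (h'.trans hfixz.symm))⟩
      by_cases e1 : g * b * g⁻¹ = b
      · rw [e1, e1]
      have e2 : g * (g * b * g⁻¹) * g⁻¹ ≠ g * b * g⁻¹ := fun h' => e1 (hinj h')
      rcases (h1.resolve_left hb2'.1).resolve_left hb2'.2 with h' | h' <;>
        rcases (h2.resolve_left hb3.1).resolve_left hb3.2 with h'' | h'' <;> first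
          | exact h''.trans h.symm
          | exact absurd (h'.trans h.symm) e1
          | exact absurd (h''.trans h'.symm) e2
  intro b hb
  obtain ⟨n, hn⟩ := S.isPGroup' ⟨b, Subgroup.map_subtype_le _ hb⟩
  replace hn : b ^ 2 ^ n = 1 := congrArg Subtype.val hn
  induction n generalizing b with
  | zero => rw [pow_zero, pow_one] at hn; rw [hn]; group
  | succ n ih =>
    have h2 : g * (b * b) * g⁻¹ = b * b := ih (b * b) (mul_mem hb hb) (by
      rw [← pow_two, ← pow_mul, ← pow_succ']; exact hn)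
    set ε := b⁻¹ * (g * b * g⁻¹) with hε
    have hεB : ε ∈ D.baseX := mul_mem (inv_mem hb) (hgB b hb)
    have hcomm : ∀ x ∈ D.baseX, ∀ y ∈ D.baseX, x * y = y * x := by
      rintro _ ⟨p, hp, rfl⟩ _ ⟨r, hr, rfl⟩
      exact congrArg Subtype.val (D.e.base_comm hp hr)
    have hε2 : ε * ε = 1 := by
      have hc := hcomm _ (hgB b hb) _ (inv_mem hb)
      calc ε * ε = b⁻¹ * ((g * b * g⁻¹) * b⁻¹) * (g * b * g⁻¹) := by rw [hε]; group
        _ = b⁻¹ * b⁻¹ * (g * (b * b) * g⁻¹) := by rw [hc]; group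
        _ = 1 := by rw [h2]; group
    have hεg := hinv ε hεB hε2
    have hstep : ∀ j : ℕ, g ^ j * b * (g ^ j)⁻¹ = b * ε ^ j := by
      intro j
      induction j with
      | zero => simp
      | succ j ihj =>
        have he : g * ε ^ j * g⁻¹ = ε ^ j := by
          rw [← conj_pow, hεg]
        calc g ^ (j + 1) * b * (g ^ (j + 1))⁻¹ = g * (g ^ j * b * (g ^ j)⁻¹) * g⁻¹ := by
              rw [pow_succ']; group
          _ = (g * b * g⁻¹) * (g * ε ^ j * g⁻¹) := by rw [ihj]; group
          _ = b * ε ^ (j + 1) := by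
              rw [he, show g * b * g⁻¹ = b * ε by rw [hε, mul_inv_cancel_left], pow_succ', mul_assoc]
    have h3 := hstep o
    rw [hg, inv_one, one_mul, mul_one] at h3
    obtain ⟨j, rfl⟩ := ho
    rw [pow_succ, pow_mul, pow_two, hε2, one_pow, one_mul, left_eq_mul] at h3
    exact (inv_mul_eq_one.1 h3).symm

/-- The normalizer of the abelian part induces on it only what `S` does. -/
theorem base_fusion {g : X} (hgB : ∀ b ∈ D.baseX, g * b * g⁻¹ ∈ D.baseX) :
    ∃ c : ↥(S : Subgroup X), ∀ b ∈ D.baseX, g * b * g⁻¹ = c * b * (c : X)⁻¹ := by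
  haveI : Fact (Nat.Prime 2) := ⟨Nat.prime_two⟩
  set N := normalizer (D.baseX : Set X) with hN
  set K := (centralizer (D.baseX : Set X)).subgroupOf N with hK
  have hgN : g ∈ N := Subgroup.mem_set_normalizer_iff.2 fun y => by
    refine ⟨hgB y, fun hy => ?_⟩
    haveI : Finite ↥D.baseX := inferInstance
    let f : ↥D.baseX → ↥D.baseX := fun x => ⟨_, hgB x x.2⟩
    have hf : Function.Surjective f := Finite.surjective_of_injective fun x x' h => Subtype.ext (by
      simpa [f] using congrArg Subtype.val h)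
    obtain ⟨x, hx⟩ := hf ⟨_, hy⟩
    have h : (x : X) = y := by simpa [f] using congrArg Subtype.val hx
    exact h ▸ x.2
  have hSN : (S : Subgroup X) ≤ N := fun c hc => Subgroup.mem_set_normalizer_iff.2 fun y => by
    have key : ∀ c : ↥(S : Subgroup X), ∀ y ∈ D.baseX, (c : X) * y * (c : X)⁻¹ ∈ D.baseX := by
      rintro c _ ⟨p, hp, rfl⟩
      exact ⟨c * p * c⁻¹, (MonoidHom.normal_ker _).conj_mem p hp c, rfl⟩
    refine ⟨key ⟨c, hc⟩ y, fun hy => ?_⟩
    have := key ⟨c, hc⟩⁻¹ _ hy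
    simpa [mul_assoc] using this
  haveI : K.Normal := ⟨fun x hx h => by
    rw [hK, Subgroup.mem_subgroupOf, Subgroup.mem_centralizer_iff] at hx ⊢
    intro y hy
    have h1 : (h : X)⁻¹ * y * h ∈ D.baseX := by
      have := (Subgroup.mem_set_normalizer_iff.1 (inv_mem h.2) y).1 hy
      simpa using this
    have h2 := hx _ h1
    show y * ((h : X) * x * (h : X)⁻¹) = (h : X) * x * (h : X)⁻¹ * y
    calc y * ((h : X) * x * (h : X)⁻¹) = h * ((h : X)⁻¹ * y * h * x) * (h : X)⁻¹ := by group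
      _ = h * (x * ((h : X)⁻¹ * y * h)) * (h : X)⁻¹ := by rw [h2]
      _ = _ := by group⟩
  have hq : IsPGroup 2 (↥N ⧸ K) := by
    intro u
    obtain ⟨x, rfl⟩ := QuotientGroup.mk_surjective u
    refine ⟨(orderOf x).factorization 2, ?_⟩
    rw [← QuotientGroup.mk_pow, QuotientGroup.eq_one_iff, hK, Subgroup.mem_subgroupOf,
      Subgroup.mem_centralizer_iff]
    intro y hy
    have hodd : Odd (orderOf x / 2 ^ (orderOf x).factorization 2) := Nat.odd_iff.2
      (Nat.two_dvd_ne_zero.1 (Nat.not_dvd_ordCompl Nat.prime_two (orderOf_pos x).ne'))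
    have h1 := D.odd_centralizes hodd (g := ((x ^ 2 ^ (orderOf x).factorization 2 : ↥N) : X)) (by
      rw [SubgroupClass.coe_pow, ← pow_mul, Nat.ordProj_mul_ordCompl_eq_self]
      exact congrArg Subtype.val (pow_orderOf_eq_one x))
      (fun b hb => (Subgroup.mem_set_normalizer_iff.1 (x ^ _ : ↥N).2 b).1 hb) y hy
    exact (mul_inv_eq_iff_eq_mul.1 h1).symm
  obtain ⟨a, ha⟩ := IsPGroup.iff_card.1 hq
  have htop : (S : Subgroup X).subgroupOf N ⊔ K = ⊤ := by
    rw [← Subgroup.index_eq_one]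
    refine Nat.eq_one_of_dvd_coprimes (Nat.Coprime.pow_right a
      ((Nat.Prime.coprime_iff_not_dvd Nat.prime_two).2 fun h => S.not_dvd_index
        (h.trans (Subgroup.relIndex_dvd_index_of_le hSN))).symm)
      (Subgroup.index_dvd_of_le le_sup_left) ?_
    rw [← ha, ← Subgroup.index_eq_card]
    exact Subgroup.index_dvd_of_le le_sup_right
  obtain ⟨c, hc, k, hk, hck⟩ := Subgroup.mem_sup_of_normal_right.1
    (htop ▸ Subgroup.mem_top (⟨g, hgN⟩ : ↥N))
  refine ⟨⟨(c : X), hc⟩, fun b hb => ?_⟩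
  have hg : g = (c : X) * k := (congrArg Subtype.val hck).symm
  have hkb : (k : X) * b = b * k :=
    (Subgroup.mem_centralizer_iff.1 (Subgroup.mem_subgroupOf.1 hk) b hb).symm
  rw [hg]
  calc (c : X) * k * b * ((c : X) * k)⁻¹ = c * (k * b * (k : X)⁻¹) * (c : X)⁻¹ := by group
    _ = _ := by rw [hkb]; group

/-- An element of the abelian part fused to the diagonal lies on the diagonal. -/
theorem diag_of_isConj {a b c : ZMod D.e.N} (hc : c + c ≠ 0)
    (h : IsConj (D.e.pt a b : X) (D.e.dd c : X)) : a = b := by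
  obtain ⟨g, hg, hcar⟩ := D.move_dd hc h
  have himg : ∀ p ∈ D.e.base, ∃ p' : ↥(S : Subgroup X),
      g * p * g⁻¹ = (p' : X) ∧ (D.e.cls p').1 = 1 := by
    intro p hp
    have hpu : p * D.e.pt a b = D.e.pt a b * p := D.e.base_comm hp (D.e.pt_mem_base a b)
    refine ⟨⟨_, hcar p hpu⟩, rfl, D.e.fst_of_commute_dd hc (Subtype.ext ?_)⟩
    show g * p * g⁻¹ * (D.e.dd c : X) = (D.e.dd c : X) * (g * p * g⁻¹)
    rw [← hg]
    calc g * (p : X) * g⁻¹ * (g * D.e.pt a b * g⁻¹)
        = g * ((p * D.e.pt a b : ↥(S : Subgroup X)) : X) * g⁻¹ := by rw [Subgroup.coe_mul]; group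
      _ = _ := by rw [hpu, Subgroup.coe_mul]; group
  have hgB : ∀ y ∈ D.baseX, g * y * g⁻¹ ∈ D.baseX := by
    by_contra hne
    push Not at hne
    obtain ⟨_, ⟨p0, hp0, rfl⟩, hout⟩ := hne
    obtain ⟨p', hp', hp1⟩ := himg p0 hp0
    obtain ⟨a0, b0, rfl | rfl⟩ := D.e.fst_eq_one hp1
    · exact hout (by rw [show g * ((S : Subgroup X).subtype p0) * g⁻¹ = _ from hp']; exact
        D.coe_mem_baseX.2 (D.e.pt_mem_base a0 b0))
    -- the image commutes with an element swapping the coordinates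
    have hsmall : ∀ p : ↥D.e.base, ∃ v : ZMod D.e.N × Bool,
        g * (p : ↥(S : Subgroup X)) * g⁻¹ =
          (((if v.2 then D.e.pt a0 b0 * D.e.s else 1) * D.e.dd v.1 : ↥(S : Subgroup X)) : X) := by
      intro p
      obtain ⟨p1, h1, h2⟩ := himg p p.2
      have hcomm : p1 * (D.e.pt a0 b0 * D.e.s) = D.e.pt a0 b0 * D.e.s * p1 := by
        refine Subtype.ext ?_
        show (p1 : X) * ((D.e.pt a0 b0 * D.e.s : ↥(S : Subgroup X)) : X) =
          ((D.e.pt a0 b0 * D.e.s : ↥(S : Subgroup X)) : X) * (p1 : X)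
        rw [← h1, ← hp']
        calc g * ((p : ↥(S : Subgroup X)) : X) * g⁻¹ * (g * p0 * g⁻¹)
            = g * (((p : ↥(S : Subgroup X)) * p0 : ↥(S : Subgroup X)) : X) * g⁻¹ := by
              rw [Subgroup.coe_mul]; group
          _ = _ := by rw [D.e.base_comm p.2 hp0, Subgroup.coe_mul]; group
      obtain ⟨a1, b1, rfl | rfl⟩ := D.e.fst_eq_one h2
      · rw [D.e.pt_mul', mul_assoc, D.e.s_pt, D.e.pt_mul', mul_left_inj, D.e.pt_inj] at hcomm
        refine ⟨(a1, false), h1.trans ?_⟩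
        simp only [Bool.false_eq_true, if_false, one_mul, Frame.dd]
        congr 2
        linear_combination -hcomm.1
      · rw [mul_assoc, D.e.s_pt', D.e.ss, mul_one, D.e.pt_mul, mul_assoc, D.e.s_pt', D.e.ss, mul_one,
          D.e.pt_mul, D.e.pt_inj] at hcomm
        refine ⟨(b1 - b0, true), h1.trans ?_⟩
        rw [if_pos rfl, Frame.dd, mul_assoc, D.e.s_pt, D.e.pt_mul']
        congr 3
        · linear_combination hcomm.1
        · ring
    choose v hv using hsmall
    have hinj : Function.Injective v := fun p r hpr => Subtype.ext (Subtype.ext (by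
      have := (hv p).trans (hpr ▸ (hv r).symm)
      simpa using this))
    have hle := Nat.card_le_card_of_injective v hinj
    rw [D.e.card_base, Nat.card_prod, Nat.card_zmod, Nat.card_eq_fintype_card (α := Bool),
      Fintype.card_bool] at hle
    have := D.e.four_le
    have h2 : D.e.N * 4 ≤ D.e.N * D.e.N := Nat.mul_le_mul_left _ this
    omega
  obtain ⟨c0, hc0⟩ := D.base_fusion hgB
  have h1 := hc0 _ (D.coe_mem_baseX.2 (D.e.pt_mem_base a b))
  rw [hg] at h1
  have h2 : c0 * D.e.pt a b * c0⁻¹ ∈ D.e.side := by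
    rw [show c0 * D.e.pt a b * c0⁻¹ = D.e.dd c from Subtype.ext h1.symm]
    exact D.e.dd_mem c
  have h3 := D.e.side_conj h2 c0⁻¹
  refine D.e.pt_mem_side ?_
  rwa [show c0⁻¹ * (c0 * D.e.pt a b * c0⁻¹) * c0⁻¹⁻¹ = D.e.pt a b by group] at h3

/-- Each side is strongly closed in `S`. -/
theorem closed : Cfsg.IsStronglyClosed D.sideX (S : Subgroup X) := by
  refine ⟨D.sideX_le, ?_⟩
  have hone : ∀ x u : ↥(S : Subgroup X), (x = 1 ∨ x = D.e.z) →
      IsConj (u : X) (x : X) → u = x := by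
    rintro x u hx h
    obtain ⟨g, hg⟩ := isConj_iff.1 h
    refine Subtype.ext ?_
    have hfix : g⁻¹ * (x : X) * g = x := by
      rcases hx with rfl | rfl
      · simp
      · rw [mul_assoc, ← D.zc g, inv_mul_cancel_left]
    rw [← hfix, ← hg]; group
  have hW : ∀ x u : ↥(S : Subgroup X), x ∈ D.e.side → x * x = D.e.z →
      IsConj (u : X) (x : X) → u ∈ D.e.side := by
    intro x u hx hx2 h
    obtain ⟨g, hg⟩ := isConj_iff.1 h.symm
    have hu2 := D.sq_z g hx2 hg
    exact (D.e.sq_eq_z hu2).resolve_right fun hm =>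
      D.no_mixing hx (h.symm.trans (D.swap_side_conj_dd hm hu2))
  have main : ∀ (n : ℕ) (c : ZMod D.e.N), ((2 ^ n : ℕ) : ZMod D.e.N) * c = 0 →
      ∀ u : ↥(S : Subgroup X), IsConj (u : X) (D.e.dd c : X) → u ∈ D.e.side := by
    intro n
    induction n with
    | zero =>
      intro c hc u h
      rw [pow_zero, Nat.cast_one, one_mul] at hc
      subst hc
      rw [hone _ u (Or.inl D.e.dd_zero) h]
      exact D.e.dd_mem _
    | succ n ih =>
      intro c hc u h
      by_cases h2 : c + c = 0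
      · rw [hone _ u ((D.e.two_eq_zero_iff.1 h2).imp (fun h => by rw [h, D.e.dd_zero])
          (fun h => by rw [h]; rfl)) h]
        exact D.e.dd_mem _
      by_cases h4 : c + c = D.e.m
      · exact hW _ u (D.e.dd_mem c) (by rw [D.e.dd_mul_dd, h4]; rfl) h
      obtain ⟨g, hg⟩ := isConj_iff.1 h
      have hu2 : IsConj ((u * u : ↥(S : Subgroup X)) : X) (D.e.dd (c + c) : X) :=
        isConj_iff.2 ⟨g, by
          rw [← D.e.dd_mul_dd, Subgroup.coe_mul, Subgroup.coe_mul, ← hg]; group⟩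
      have hside := ih (c + c) (by rw [← hc, pow_succ, Nat.cast_mul]; push_cast; ring) _ hu2
      have hne : u * u ≠ 1 ∧ u * u ≠ D.e.z := by
        constructor <;> intro he <;> rw [he] at hu2
        · exact h2 (D.e.dd_inj ((hone 1 _ (Or.inl rfl) hu2.symm).trans D.e.dd_zero.symm))
        · exact h4 (D.e.dd_inj ((hone _ _ (Or.inr rfl) hu2.symm).trans D.e.dd_m.symm))
      obtain ⟨a, b, rfl | rfl | rfl | rfl⟩ := D.e.cases4 u
      · rw [D.diag_of_isConj h2 h]
        exact D.e.dd_mem b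
      · refine absurd ?_ hne.1
        rw [mul_assoc, D.e.i_pt', D.e.ii, mul_one, D.e.pt_mul, add_neg_cancel, add_neg_cancel,
          D.e.pt_zero]
      · have hsq : D.e.pt a b * D.e.s * (D.e.pt a b * D.e.s) = D.e.dd (a + b) := by
          rw [mul_assoc, D.e.s_pt', D.e.ss, mul_one, D.e.pt_mul, add_comm b a]; rfl
        obtain ⟨c', hc' | hc'⟩ := D.e.parity (a + b - D.e.m)
        · -- move the second side part onto the diagonal
          set a' := a - c' with ha'
          have hu : D.e.pt a b * D.e.s = D.e.dd c' * D.e.swap.ww a' := by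
            rw [D.e.dd_swap_ww]
            congr 2
            · rw [ha']; ring
            · rw [ha']; linear_combination hc'
          have hw := D.e.swap.ww_mem a'
          have hw2 : D.e.swap.ww a' * D.e.swap.ww a' = D.e.z := (D.e.swap.ww_sq a').trans D.e.swap_z
          obtain ⟨g1, hg1, hcar⟩ := D.swap.move_dd D.e.swap.q_add_q_ne (D.swap_side_conj_dd hw hw2)
          have hmap : D.e.side ≤
              D.sideX.comap ((MulAut.conj g1).toMonoidHom.comp (S : Subgroup X).subtype) := by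
            refine D.e.side_le fun j => ?_
            have h3 := D.e.side_comm hw hw2 (D.e.ww_mem j) (D.e.ww_sq j)
            obtain ⟨w', hw', he⟩ := D.image_mem_side hg1 hcar (D.e.ww_sq j) h3.1 h3.2.1 h3.2.2
            exact ⟨w', hw', he.symm⟩
          obtain ⟨s1, hs1, hs1e⟩ := hmap (D.e.dd_mem c')
          change (s1 : X) = g1 * (D.e.dd c' : X) * g1⁻¹ at hs1e
          have hconj : IsConj ((D.e.pt a b * D.e.s : ↥(S : Subgroup X)) : X)
              ((s1 * D.e.swap.dd D.e.q : ↥(S : Subgroup X)) : X) := isConj_iff.2 ⟨g1, by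
            rw [hu, Subgroup.coe_mul, Subgroup.coe_mul, hs1e,
              show (D.e.swap.dd D.e.q : X) = g1 * (D.e.swap.ww a' : X) * g1⁻¹ from hg1.symm]
            group⟩
          exfalso
          rcases hs1 with ⟨c3, rfl⟩ | ⟨a3, rfl⟩
          · have heq : D.e.dd c3 * D.e.swap.dd D.e.q = D.e.pt (c3 + D.e.q) (c3 + -D.e.q) := by
              rw [D.e.swap_dd, Frame.dd, D.e.pt_mul]
            rw [heq] at hconj
            exact D.e.q_ne_neg (add_left_cancel (D.diag_of_isConj h2 (hconj.symm.trans h)))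
          · obtain ⟨g2, hg2⟩ := isConj_iff.1 hconj
            refine hne.1 (hone 1 _ (Or.inl rfl) ?_)
            refine isConj_iff.2 ⟨g2, ?_⟩
            have h1 : D.e.ww a3 * D.e.swap.dd D.e.q * (D.e.ww a3 * D.e.swap.dd D.e.q) = 1 := by
              rw [mul_assoc, ← mul_assoc (D.e.swap.dd _),
                ← D.e.side_commute (D.e.ww_mem a3) (D.e.swap.dd_mem _), mul_assoc (D.e.ww a3),
                ← mul_assoc, D.e.ww_sq]
              exact (congrArg (D.e.z * ·) (D.e.swap.dd_q_sq.trans D.e.swap_z)).trans D.e.z_sq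
            rw [← h1]
            show g2 * (((D.e.pt a b * D.e.s : ↥(S : Subgroup X)) : X) *
                ((D.e.pt a b * D.e.s : ↥(S : Subgroup X)) : X)) * g2⁻¹ =
              ((D.e.ww a3 * D.e.swap.dd D.e.q : ↥(S : Subgroup X)) : X) *
                ((D.e.ww a3 * D.e.swap.dd D.e.q : ↥(S : Subgroup X)) : X)
            rw [← hg2]
            group
        · -- otherwise the order is too large
          exfalso
          have hN : 2 * 2 ^ (D.e.k - 1) = D.e.N := by
            rw [← pow_succ', Rel.N]; congr 1; have := D.e.hk; omega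
          have hx : (D.e.dd c) ^ D.e.N = 1 := by
            rw [D.e.dd_pow, ZMod.natCast_self, zero_mul, D.e.dd_zero]
          have hun : (D.e.pt a b * D.e.s) ^ D.e.N = 1 := by
            refine Subtype.ext ?_
            rw [SubgroupClass.coe_pow, Subgroup.coe_one, ← conj_eq_one_iff (a := g), ← conj_pow, hg,
              ← SubgroupClass.coe_pow, hx, Subgroup.coe_one]
          rw [← hN, pow_mul, pow_two, hsq, D.e.dd_pow,
            show ((2 ^ (D.e.k - 1) : ℕ) : ZMod D.e.N) = D.e.m from rfl, ← D.e.dd_zero] at hun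
          refine D.e.m_ne_zero ?_
          linear_combination D.e.dd_inj hun - D.e.m * hc' - D.e.half_mul c' -
            D.e.m_mul_m
      · exfalso
        rw [mul_assoc, D.e.is_pt', D.e.is_is, mul_one, D.e.pt_mul] at hside hne
        have h1 := D.e.pt_mem_side hside
        have h5 : (a + -b) + (a + -b) = 0 := by linear_combination h1
        rcases D.e.two_eq_zero_iff.1 h5 with h6 | h6 <;> rw [← h1, h6] at hne
        · exact hne.1 D.e.pt_zero
        · exact hne.2 rfl
  rintro _ ⟨x, hx, rfl⟩ g hg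
  have hconj : IsConj ((⟨_, hg⟩ : ↥(S : Subgroup X)) : X) (x : X) := (isConj_iff.2 ⟨g, rfl⟩).symm
  refine (D.coe_mem_sideX (p := ⟨_, hg⟩)).2 ?_
  rcases hx with ⟨c, rfl⟩ | ⟨a, rfl⟩
  · exact main D.e.k c (by rw [ZMod.natCast_self, zero_mul]) _ hconj
  · exact hW _ _ (D.e.ww_mem a) (D.e.ww_sq a) hconj

end Cfg

end Cfsg.Agent.Grp.GTwoSylow
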