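import Cfsg.Agent.Lib.Grp.GTwoCent.Side
import Cfsg.Agent.Lib.Invol.Sylow
import Cfsg.Agent.Lib.Invol.Basic
import Cfsg.Agent.Lib.Transfer.Burnside

/-!
# Fusion of the square roots of `z` in the centralizer of a central involution

`X` has the Sylow 2-subgroup of `G₂(q)`, `z` is central and `s`, `i s` fuse to `t`. Then every
square root of `z` in a side is conjugate to the diagonal one, and no element of a side is conjugate
to the diagonal square root of `z` of the other side.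
-/

set_option autoImplicit false

namespace Cfsg.Agent.Grp.GTwoSylow

open Subgroup Rel Frame

variable {X : Type*} [Group X] {S : Sylow 2 X}

/-- The centralizer configuration. -/
structure Cfg (S : Sylow 2 X) where
  e : Frame ↥(S : Subgroup X)
  zc : ∀ g : X, g * (e.z : X) = (e.z : X) * g
  fs : IsConj (e.s : X) (e.t : X)
  fis : IsConj ((e.i * e.s : ↥(S : Subgroup X)) : X) (e.t : X)

namespace Frame

variable {T : Type*} [Group T] (e : Frame T)

theorem swap_swap_dd (c : ZMod e.N) : e.swap.swap.dd c = e.dd c := e.swap_swap_pt c c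

theorem swap_swap_ww (a : ZMod e.N) : e.swap.swap.ww a = e.ww a := by
  show e.swap.swap.pt a (a + e.m) * (e.i * (e.i * (e.i * e.s))) = _
  rw [e.swap_swap_pt, e.ii']
  rfl

theorem swap_swap_side : e.swap.swap.side = e.side := by
  ext g
  constructor
  · rintro (⟨c, rfl⟩ | ⟨a, rfl⟩)
    exacts [Or.inl ⟨c, e.swap_swap_dd c⟩, Or.inr ⟨a, e.swap_swap_ww a⟩]
  · rintro (⟨c, rfl⟩ | ⟨a, rfl⟩)
    exacts [Or.inl ⟨c, (e.swap_swap_dd c).symm⟩, Or.inr ⟨a, (e.swap_swap_ww a).symm⟩]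

/-- The abelian part. -/
noncomputable def base : Subgroup T := e.cls.ker

theorem mem_base {g : T} : g ∈ e.base ↔ ∃ a b, g = e.pt a b := by
  refine ⟨fun h => ?_, fun ⟨a, b, h⟩ => MonoidHom.mem_ker.2 (by rw [h, e.cls_pt]; rfl)⟩
  have h' : e.cls g = 1 := h
  obtain ⟨a, b, rfl | rfl | rfl | rfl⟩ := e.cases4 g
  · exact ⟨a, b, rfl⟩
  all_goals simp only [e.cls_i, e.cls_s, e.cls_is] at h'; exact absurd h' (by decide)

theorem pt_mem_base (a b : ZMod e.N) : e.pt a b ∈ e.base := e.mem_base.2 ⟨a, b, rfl⟩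

theorem fst_eq_one {g : T} (h : (e.cls g).1 = 1) : ∃ a b, g = e.pt a b ∨ g = e.pt a b * e.s := by
  obtain ⟨a, b, rfl | rfl | rfl | rfl⟩ := e.cases4 g
  · exact ⟨a, b, Or.inl rfl⟩
  · rw [e.cls_i] at h; exact absurd h (by decide)
  · exact ⟨a, b, Or.inr rfl⟩
  · rw [e.cls_is] at h; exact absurd h (by decide)

theorem commute_dd {g : T} (h : (e.cls g).1 = 1) (c : ZMod e.N) : g * e.dd c = e.dd c * g := by
  obtain ⟨a, b, rfl | rfl⟩ := e.fst_eq_one h
  · rw [dd, e.pt_mul, e.pt_mul, add_comm a, add_comm b]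
  · rw [dd, mul_assoc, e.s_pt, e.pt_mul', e.pt_mul', add_comm a, add_comm b]

theorem fst_of_commute_dd {g : T} {c : ZMod e.N} (hc : c + c ≠ 0) (h : g * e.dd c = e.dd c * g) :
    (e.cls g).1 = 1 := by
  obtain ⟨a, b, rfl | rfl | rfl | rfl⟩ := e.cases4 g
  · rw [e.cls_pt]; rfl
  · exfalso
    rw [dd, mul_assoc, e.i_pt, e.pt_mul', e.pt_mul', mul_left_inj, e.pt_inj] at h
    exact hc (by linear_combination -h.1)
  · rw [e.cls_s]; rfl
  · exfalso
    rw [dd, mul_assoc, e.is_pt, e.pt_mul', e.pt_mul', mul_left_inj, e.pt_inj] at h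
    exact hc (by linear_combination -h.1)

theorem commute_t {g : T} (h : (e.cls g).2 = 1) : g * e.t = e.t * g := by
  obtain ⟨a, b, rfl | rfl | rfl | rfl⟩ := e.cases4 g
  · rw [Rel.t, e.pt_mul, e.pt_mul, add_comm a, add_comm b]
  · rw [Rel.t, mul_assoc, e.i_pt, e.pt_mul', e.pt_mul', e.neg_m, neg_zero, add_comm a, add_comm b]
  · rw [e.cls_s] at h; exact absurd h (by decide)
  · rw [e.cls_is] at h; exact absurd h (by decide)

theorem z_sq : e.z * e.z = 1 := by rw [Rel.z, e.pt_mul, e.m_add_m, e.pt_zero]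

theorem side_central {g : T} (h : g * g = e.z) : g ≠ 1 ∧ g ≠ e.z := by
  constructor <;> rintro rfl
  · exact e.z_ne_one (by rw [← h, mul_one])
  · exact e.z_ne_one (by rw [← h, e.z_sq])

theorem swap_side_z {g : T} (h : g ∈ e.side) (hs : g ∈ e.swap.side) : g * g ≠ e.z := fun h2 => by
  rcases e.side_inter h hs with h' | h'
  exacts [(e.side_central h2).1 h', (e.side_central h2).2 h']

theorem q_add_q_ne : e.q + e.q ≠ 0 := by rw [e.q_add_q]; exact e.m_ne_zero

theorem dd_q_sq : e.dd e.q * e.dd e.q = e.z := by rw [dd_mul_dd, q_add_q, dd_m]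

theorem dd_neg_q_conj : e.i * e.dd (-e.q) * e.i⁻¹ = e.dd e.q := by
  rw [dd, i_conj_pt, neg_neg]; rfl

theorem side_comm {g : T} (h : g ∈ e.swap.side) (hh : g * g = e.z) {w : T} (hw : w ∈ e.side)
    (hw2 : w * w = e.z) : w * g = g * w ∧ w ≠ g ∧ w ≠ g⁻¹ :=
  ⟨e.side_commute hw h, fun he => e.swap_side_z hw (he ▸ h) hw2,
    fun he => e.swap_side_z hw (he ▸ e.swap.side.inv_mem h) hw2⟩

theorem mem_swap_side_of_commute {g : T} (h : ∀ w ∈ e.side, g * w = w * g) : g ∈ e.swap.side := by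
  have hq := h _ (e.dd_mem e.q)
  have hw := h _ (e.ww_mem 0)
  obtain ⟨a, b, rfl | rfl⟩ := e.fst_eq_one (e.fst_of_commute_dd e.q_add_q_ne hq)
  · rw [ww, mul_assoc, e.is_pt, e.pt_mul', e.pt_mul', mul_left_inj, e.pt_inj] at hw
    refine Or.inl ⟨a, ?_⟩
    rw [swap_dd, e.pt_inj]
    exact ⟨rfl, by linear_combination hw.1⟩
  · rw [ww, mul_assoc, e.s_pt', e.pt_mul', mul_assoc, e.is_pt', e.pt_mul', e.si', e.ss, mul_one,
      mul_assoc e.i, e.ss, mul_one, mul_left_inj, e.pt_inj] at hw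
    refine Or.inr ⟨a, ?_⟩
    rw [swap_ww, mul_left_inj, e.pt_inj]
    exact ⟨rfl, by linear_combination hw.1 - e.m_add_m⟩

end Frame

/-- Elements of `S` centralizing a conjugate. -/
def carries (g : X) (u : ↥(S : Subgroup X)) : Prop :=
  ∀ c : ↥(S : Subgroup X), c * u = u * c → g * c * g⁻¹ ∈ (S : Subgroup X)

variable [Finite X]

namespace Cfg

variable (D : Cfg S)

/-- The configuration with the two sides exchanged. -/
@[reducible] def swap : Cfg S where
  e := D.e.swap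
  zc := fun g => by
    rw [show D.e.swap.z = D.e.z from D.e.swap_z]
    exact D.zc g
  fs := by
    rw [show D.e.swap.t = D.e.t from D.e.swap_t]
    exact D.fis
  fis := by
    rw [show D.e.swap.t = D.e.t from D.e.swap_t,
      show D.e.swap.i * D.e.swap.s = D.e.s from D.e.ii' D.e.s]
    exact D.fs

omit [Finite X] in
theorem conj_S {a b h : ↥(S : Subgroup X)} (hh : h * a * h⁻¹ = b) : IsConj (a : X) (b : X) :=
  isConj_iff.2 ⟨(h : X), by rw [← hh]; rfl⟩

/-- A conjugate can be moved onto an element whose centralizer has index at most two in `S`,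
carrying its centralizer along. -/
theorem move {u v : ↥(S : Subgroup X)} (φ : ↥(S : Subgroup X) →* Multiplicative (ZMod 2))
    (hφ : ∀ c, φ c = 1 → c * v = v * c) (hv1 : v ≠ 1) (hvz : v ≠ D.e.z)
    (h : IsConj (u : X) (v : X)) :
    ∃ g : X, g * u * g⁻¹ = v ∧ carries g u := by
  haveI : Fact (Nat.Prime 2) := ⟨Nat.prime_two⟩
  obtain ⟨g, hg⟩ := isConj_iff.1 h
  set C := centralizer {(v : X)} with hC
  set R := (S : Subgroup X) ⊓ C with hR
  have hker : Nat.card ↥(S : Subgroup X) ≤ 2 * Nat.card ↥R := by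
    have h1 := φ.ker.card_mul_index
    have h2 : φ.ker.index ≤ 2 := by
      rw [Subgroup.index_ker]
      exact (Subgroup.card_le_card_group _).trans_eq (by simp [Nat.card_eq_fintype_card])
    have h3 : Nat.card ↥φ.ker ≤ Nat.card ↥R := by
      refine Nat.card_le_card_of_injective
        (fun c => ⟨((c : ↥(S : Subgroup X)) : X), (c : ↥(S : Subgroup X)).2,
          mem_centralizer_singleton_iff.2 (congrArg Subtype.val (hφ c c.2))⟩) fun c d hcd => ?_
      exact Subtype.ext (Subtype.ext (congrArg (fun r : ↥R => (r : X)) hcd))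
    calc Nat.card ↥(S : Subgroup X) = Nat.card ↥φ.ker * φ.ker.index := h1.symm
      _ ≤ Nat.card ↥R * 2 := Nat.mul_le_mul h3 h2
      _ = _ := mul_comm _ _
  -- `R` is a Sylow subgroup of the centralizer
  obtain ⟨T, hT⟩ := ((S.isPGroup'.to_le inf_le_left : IsPGroup 2 ↥R).comap_subtype (K := C)).exists_le_sylow
  have hTR : ((T : Subgroup C).map C.subtype) = R := by
    set T' := (T : Subgroup C).map C.subtype with hT'
    have hRT : R ≤ T' := fun r hr => ⟨⟨r, hr.2⟩, hT hr, rfl⟩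
    have hTp : IsPGroup 2 ↥T' := T.isPGroup'.map _
    by_contra hne
    have hlt : Nat.card ↥R < Nat.card ↥T' := lt_of_le_of_ne (Subgroup.card_le_of_le hRT)
      fun he => hne (Subgroup.eq_of_le_of_card_ge hRT he.ge).symm
    obtain ⟨g', hg'⟩ := Invol.exists_conj_subset_sylow hTp S
    obtain ⟨n, hn⟩ := IsPGroup.iff_card.1 hTp
    obtain ⟨r, hr⟩ := IsPGroup.iff_card.1 (S.isPGroup'.to_le inf_le_left : IsPGroup 2 ↥R)
    have hle : Nat.card ↥(S : Subgroup X) ≤ Nat.card ↥T' := by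
      refine hker.trans ?_
      rw [hn, hr] at hlt ⊢
      calc 2 * 2 ^ r = 2 ^ (r + 1) := by ring
        _ ≤ 2 ^ n := Nat.pow_le_pow_right two_pos ((Nat.pow_lt_pow_iff_right (by norm_num)).1 hlt)
    have hmap : T'.map (MulAut.conj g').toMonoidHom = (S : Subgroup X) := by
      refine Subgroup.eq_of_le_of_card_ge ?_ ?_
      · rintro _ ⟨c, hc, rfl⟩; exact hg' c hc
      · rw [Subgroup.card_map_of_injective (MulEquiv.injective _)]; exact hle
    have hvT : (v : X) ∈ T' := hRT ⟨v.2, mem_centralizer_singleton_iff.2 rfl⟩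
    have hvS := hg' _ hvT
    rcases D.e.cases_center (g := ⟨_, hvS⟩) (fun x => by
      obtain ⟨c, ⟨c', -, hc'⟩, hcx⟩ := (hmap.symm ▸ x.2 : (x : X) ∈ T'.map (MulAut.conj g').toMonoidHom)
      have hc1 : c * (v : X) = v * c := hc' ▸ mem_centralizer_singleton_iff.1 c'.2
      refine Subtype.ext ?_
      show g' * v * g'⁻¹ * (x : X) = (x : X) * (g' * v * g'⁻¹)
      rw [← hcx]
      show g' * v * g'⁻¹ * (g' * c * g'⁻¹) = g' * c * g'⁻¹ * (g' * v * g'⁻¹)
      calc g' * (v : X) * g'⁻¹ * (g' * c * g'⁻¹) = g' * (v * c) * g'⁻¹ := by group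
        _ = g' * (c * v) * g'⁻¹ := by rw [hc1]
        _ = _ := by group) with h1 | h1
    · exact hv1 (Subtype.ext (by simpa using congrArg Subtype.val h1))
    · refine hvz (Subtype.ext ?_)
      have h2 : g' * (v : X) * g'⁻¹ = D.e.z := congrArg Subtype.val h1
      calc (v : X) = g'⁻¹ * (g' * v * g'⁻¹) * g' := by group
        _ = g'⁻¹ * (D.e.z * g') := by rw [h2, mul_assoc]
        _ = D.e.z := by rw [← D.zc g', inv_mul_cancel_left]
  have hp : IsPGroup 2 ↥((((S : Subgroup X) ⊓ centralizer {(u : X)}).map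
      (MulAut.conj g).toMonoidHom).subgroupOf C) :=
    ((S.isPGroup'.to_le inf_le_left).map _).comap_subtype
  obtain ⟨⟨h', hh'C⟩, hh'⟩ := Invol.exists_conj_subset_sylow hp T
  have hh'' : h' * (v : X) = v * h' := mem_centralizer_singleton_iff.1 hh'C
  refine ⟨h' * g, ?_, fun c hc => ?_⟩
  · calc h' * g * u * (h' * g)⁻¹ = h' * (g * u * g⁻¹) * h'⁻¹ := by group
      _ = v := by rw [hg, hh'']; group
  · have hcC : g * (c : X) * g⁻¹ ∈ C := by
      have hc' : (c : X) * u = u * c := congrArg Subtype.val hc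
      rw [mem_centralizer_singleton_iff, ← hg]
      calc g * (c : X) * g⁻¹ * (g * u * g⁻¹) = g * (c * u) * g⁻¹ := by group
        _ = g * (u * c) * g⁻¹ := by rw [hc']
        _ = _ := by group
    have hm := hh' ⟨_, hcC⟩ ⟨c, ⟨c.2, mem_centralizer_singleton_iff.2 (congrArg Subtype.val hc)⟩, rfl⟩
    have hm' : h' * (g * c * g⁻¹) * h'⁻¹ ∈ R := hTR ▸ ⟨_, hm, rfl⟩
    rw [show h' * g * c * (h' * g)⁻¹ = h' * (g * c * g⁻¹) * h'⁻¹ by group]
    exact hm'.1

omit [Finite X] in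
/-- Conjugation preserves square roots of `z`. -/
theorem sq_z (g : X) {w w' : ↥(S : Subgroup X)} (hw : w * w = D.e.z) (h : g * w * g⁻¹ = w') :
    w' * w' = D.e.z := Subtype.ext <| by
  rw [Subgroup.coe_mul, ← h]
  calc g * (w : X) * g⁻¹ * (g * w * g⁻¹) = g * ((w * w : ↥(S : Subgroup X)) : X) * g⁻¹ := by
        rw [Subgroup.coe_mul]; group
    _ = D.e.z := by rw [hw, D.zc g]; group

/-- Moving onto a diagonal element. -/
theorem move_dd {u : ↥(S : Subgroup X)} {c : ZMod D.e.N} (hc : c + c ≠ 0)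
    (h : IsConj (u : X) (D.e.dd c : X)) :
    ∃ g : X, g * u * g⁻¹ = D.e.dd c ∧ carries g u := by
  refine D.move ((MonoidHom.fst _ _).comp D.e.cls) (fun x hx => D.e.commute_dd hx c) ?_ ?_ h
  · exact fun h1 => hc (by rw [D.e.dd_inj (h1.trans D.e.dd_zero.symm), add_zero])
  · exact fun h1 => hc (by rw [D.e.dd_inj (h1.trans D.e.dd_m.symm), D.e.m_add_m])

/-- Where the square roots of `z` go under a move onto `d'`. -/
theorem image_mem_side {g : X} {y w : ↥(S : Subgroup X)}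
    (hy : g * y * g⁻¹ = (D.e.swap.dd D.e.q : X)) (hg : carries g y) (hw : w * w = D.e.z)
    (hwy : w * y = y * w) (h1 : w ≠ y) (h2 : w ≠ y⁻¹) :
    ∃ w', w' ∈ D.e.side ∧ g * w * g⁻¹ = (w' : X) := by
  refine ⟨⟨_, hg w hwy⟩, (D.e.sq_eq_z (D.sq_z g hw rfl)).resolve_right fun hm => ?_, rfl⟩
  rcases D.e.swap.side_sq_eq_z hm ((D.sq_z g hw rfl).trans D.e.swap_z.symm) with h | h | ⟨a, h⟩
  · refine h1 (Subtype.ext ((MulAut.conj g).injective ?_))
    exact (congrArg Subtype.val h).trans hy.symm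
  · refine h2 (Subtype.ext ((MulAut.conj g).injective ?_))
    refine (congrArg Subtype.val h).trans ?_
    rw [← D.e.swap.dd_inv, InvMemClass.coe_inv, InvMemClass.coe_inv, map_inv]
    exact congrArg Inv.inv hy.symm
  · have hcomm : D.e.swap.ww a * D.e.swap.dd D.e.q = D.e.swap.dd D.e.q * D.e.swap.ww a := by
      rw [← h]
      refine Subtype.ext ?_
      show g * w * g⁻¹ * (D.e.swap.dd D.e.q : X) = (D.e.swap.dd D.e.q : X) * (g * w * g⁻¹)
      rw [← hy]
      calc g * (w : X) * g⁻¹ * (g * y * g⁻¹) = g * ((w * y : ↥(S : Subgroup X)) : X) * g⁻¹ := by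
            rw [Subgroup.coe_mul]; group
        _ = _ := by rw [hwy, Subgroup.coe_mul]; group
    have := D.e.swap.fst_of_commute_dd D.e.swap.q_add_q_ne hcomm
    rw [D.e.swap.cls_ww] at this
    exact absurd this (by decide)

/-- No element of a side is conjugate to the diagonal square root of `z` of the other side. -/
theorem no_mixing {x : ↥(S : Subgroup X)} (hx : x ∈ D.e.side)
    (hc : IsConj (x : X) (D.e.swap.dd D.e.q : X)) : False := by
  haveI : Fact (Nat.Prime 2) := ⟨Nat.prime_two⟩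
  obtain ⟨g, hg, hcar⟩ := D.swap.move_dd D.e.swap.q_add_q_ne hc
  have hx2 : x * x = D.e.z := D.sq_z g⁻¹ (D.e.swap.dd_q_sq.trans D.e.swap_z) (by rw [← hg]; group)
  set Q1 := D.e.side.map (S : Subgroup X).subtype with hQ1
  set Q2 := D.e.swap.side.map (S : Subgroup X).subtype with hQ2
  have hcard : Nat.card ↥Q1 = Nat.card ↥Q2 := by
    rw [hQ1, hQ2, Subgroup.card_map_of_injective (Subgroup.subtype_injective _),
      Subgroup.card_map_of_injective (Subgroup.subtype_injective _), D.e.card_side, D.e.card_swap_side]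
  have hle : Q2.map (MulAut.conj g).toMonoidHom ≤ Q1 := by
    suffices h : D.e.swap.side ≤
        Q1.comap ((MulAut.conj g).toMonoidHom.comp (S : Subgroup X).subtype) by
      rintro _ ⟨_, ⟨p, hp, rfl⟩, rfl⟩
      exact h hp
    refine D.e.swap.side_le fun a => ?_
    have h2 : D.e.swap.ww a * D.e.swap.ww a = D.e.z := (D.e.swap.ww_sq a).trans D.e.swap_z
    have h3 := D.e.side_comm (D.e.swap.ww_mem a) h2 hx hx2
    obtain ⟨w', hw', he⟩ := D.image_mem_side hg hcar h2 h3.1.symm (Ne.symm h3.2.1)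
      fun he => h3.2.2 (by rw [he, inv_inv])
    exact ⟨w', hw', he.symm⟩
  have heq : Q2.map (MulAut.conj g).toMonoidHom = Q1 := Subgroup.eq_of_le_of_card_ge hle (by
    rw [Subgroup.card_map_of_injective (f := (MulAut.conj g).toMonoidHom) (MulAut.conj g).injective, hcard])
  have hn : ∀ f : Frame ↥(S : Subgroup X),
      (S : Subgroup X) ≤ normalizer (f.side.map (S : Subgroup X).subtype : Set X) := by
    intro f c hc
    rw [Subgroup.mem_set_normalizer_iff]
    intro y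
    constructor
    · rintro ⟨p, hp, rfl⟩
      exact ⟨_, f.side_conj hp ⟨c, hc⟩, rfl⟩
    · rintro ⟨p, hp, hpy⟩
      refine ⟨⟨c, hc⟩⁻¹ * p * ⟨c, hc⟩⁻¹⁻¹, f.side_conj hp _, ?_⟩
      change (p : X) = c * y * c⁻¹ at hpy
      show c⁻¹ * (p : X) * c⁻¹⁻¹ = y
      rw [hpy]; group
  obtain ⟨n, hnN, hn21⟩ := Transfer.exists_normalizer_conj_set S (hn D.e.swap) (hn D.e) (g := g)
    (X := (Q2 : Set X)) (Y := (Q1 : Set X)) fun y => by
      rw [← heq]
      exact (Subgroup.mem_map_iff_mem (MulEquiv.injective _) (x := y) (K := Q2)).symm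
  have hn12 : ∀ y, y ∈ Q1 → n * y * n⁻¹ ∈ Q2 := by
    rintro _ ⟨p, hp, rfl⟩
    have hpS : n * (p : X) * n⁻¹ ∈ (S : Subgroup X) := (Subgroup.mem_set_normalizer_iff.1 hnN _).1 p.2
    refine ⟨⟨_, hpS⟩, ?_, rfl⟩
    have hcomm : ∀ w ∈ D.e.side, (⟨_, hpS⟩ : ↥(S : Subgroup X)) * w = w * ⟨_, hpS⟩ := by
      intro w hw
      have hw' : n⁻¹ * (w : X) * n ∈ Q2 := by
        rw [← SetLike.mem_coe, hn21]
        exact ⟨w, hw, by simp [mul_assoc]⟩
      obtain ⟨r, hr, hrw⟩ := hw'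
      have hc' : (p : X) * r = r * p := congrArg Subtype.val (D.e.side_commute hp hr)
      refine Subtype.ext ?_
      show n * p * n⁻¹ * (w : X) = (w : X) * (n * p * n⁻¹)
      have hw2 : (w : X) = n * r * n⁻¹ := by
        rw [show (r : X) = n⁻¹ * w * n from hrw]; group
      rw [hw2]
      calc n * (p : X) * n⁻¹ * (n * r * n⁻¹) = n * (p * r) * n⁻¹ := by group
        _ = n * (r * p) * n⁻¹ := by rw [hc']
        _ = _ := by group
    exact D.e.mem_swap_side_of_commute hcomm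
  -- an odd power of `n` lies in `S` and still exchanges the sides
  have hflip : ∀ j : ℕ, ∀ y ∈ Q2, n ^ (2 * j + 1) * y * (n ^ (2 * j + 1))⁻¹ ∈ Q1 := by
    intro j
    induction j with
    | zero => intro y hy; rw [Nat.mul_zero, zero_add, pow_one]; exact (hn21 y).1 hy
    | succ j ih =>
      intro y hy
      have h1 := (hn21 _).1 (hn12 _ (ih y hy))
      rw [show 2 * (j + 1) + 1 = (2 * j + 1) + 1 + 1 by ring, pow_succ', pow_succ']
      simpa [mul_assoc] using h1
  obtain ⟨j, hj⟩ : ∃ j, n ^ (2 * j + 1) ∈ (S : Subgroup X) := by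
    set N' := normalizer ((S : Subgroup X) : Set X)
    haveI : ((S : Subgroup X).subgroupOf N').Normal := Subgroup.normal_in_normalizer
    have hodd : ¬ 2 ∣ ((S : Subgroup X).subgroupOf N').index := fun h =>
      S.not_dvd_index (h.trans (Subgroup.relIndex_dvd_index_of_le Subgroup.le_normalizer))
    obtain ⟨j, hj⟩ := Nat.odd_iff.2 (Nat.two_dvd_ne_zero.1 hodd)
    refine ⟨j, ?_⟩
    have := Subgroup.pow_index_mem ((S : Subgroup X).subgroupOf N') (⟨n, hnN⟩ : ↥N')
    rw [hj] at this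
    exact this
  have hw := hflip j (D.e.swap.dd D.e.q : X) ⟨_, D.e.swap.dd_mem _, rfl⟩
  obtain ⟨p, hp, hpe⟩ := hw
  have hp2 : p ∈ D.e.swap.side := by
    have : p = ⟨_, hj⟩ * D.e.swap.dd D.e.q * ⟨_, hj⟩⁻¹ := Subtype.ext hpe
    rw [this]
    exact D.e.swap.side_conj (D.e.swap.dd_mem _) _
  refine D.e.swap_side_z hp hp2 ?_
  exact D.sq_z (n ^ (2 * j + 1)) (D.e.swap.dd_q_sq.trans D.e.swap_z) hpe.symm

/-- An element keeping the diagonal root of `z` of one side and moving one of the other. -/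
theorem exists_fusion : ∃ g : X,
    (g * (D.e.dd D.e.q : X) * g⁻¹ = D.e.dd D.e.q ∨
      g * (D.e.dd D.e.q : X) * g⁻¹ = D.e.dd (-D.e.q)) ∧
    (g * (D.e.swap.ww (-D.e.q) : X) * g⁻¹ = D.e.swap.dd D.e.q ∨
      g * (D.e.swap.ww (-D.e.q) : X) * g⁻¹ = D.e.swap.dd (-D.e.q)) := by
  obtain ⟨g, hg, hcar⟩ := D.move (u := D.e.s) ((MonoidHom.snd _ _).comp D.e.cls)
    (fun c hc => D.e.commute_t hc) D.e.t_ne_one
    (fun h => D.e.m_ne_zero (D.e.pt_inj.1 h).2.symm) D.fs
  set d := D.e.dd D.e.q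
  set w := D.e.swap.ww (-D.e.q)
  have hsd : d * D.e.s = D.e.s * d := by
    refine (D.e.commute_dd ?_ _).symm
    rw [← one_mul D.e.s, ← D.e.pt_zero, D.e.cls_s]; rfl
  have hsw : w * D.e.s = D.e.s * w := by
    rw [D.e.s_eq, ← mul_assoc, ← D.e.side_commute (D.e.dd_mem _) (D.e.swap.ww_mem _)]
  have hw2 : w * w = D.e.z := (D.e.swap.ww_sq _).trans D.e.swap_z
  obtain ⟨d₁, hd₁⟩ : ∃ d₁ : ↥(S : Subgroup X), g * d * g⁻¹ = (d₁ : X) := ⟨⟨_, hcar d hsd⟩, rfl⟩
  obtain ⟨w₁, hw₁⟩ : ∃ w₁ : ↥(S : Subgroup X), g * w * g⁻¹ = (w₁ : X) := ⟨⟨_, hcar w hsw⟩, rfl⟩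
  have hprod : d₁ * w₁ = D.e.t := Subtype.ext <| by
    rw [Subgroup.coe_mul, ← hd₁, ← hw₁, ← hg, D.e.s_eq, Subgroup.coe_mul]
    show _ = g * ((d : X) * w) * g⁻¹
    group
  have hcomm : d₁ * D.e.t = D.e.t * d₁ := by
    rw [← hprod]
    refine Subtype.ext ?_
    simp only [Subgroup.coe_mul, ← hd₁, ← hw₁]
    have hdw : (d : X) * w = w * d := congrArg Subtype.val (D.e.side_commute (D.e.dd_mem _) (D.e.swap.ww_mem _))
    calc g * (d : X) * g⁻¹ * (g * d * g⁻¹ * (g * w * g⁻¹)) = g * (d * (d * w)) * g⁻¹ := by group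
      _ = g * (d * (w * d)) * g⁻¹ := by rw [hdw]
      _ = _ := by group
  have hd12 := D.sq_z g D.e.dd_q_sq hd₁
  have hdS : ∀ {p q' : ↥(S : Subgroup X)}, g * p * g⁻¹ = (q' : X) → IsConj (p : X) (q' : X) :=
    fun h => isConj_iff.2 ⟨g, h⟩
  have hmain : d₁ = D.e.dd D.e.q ∨ d₁ = D.e.dd (-D.e.q) := by
    rcases D.e.sq_eq_z hd12 with hm | hm
    · rcases D.e.side_sq_eq_z hm hd12 with h | h | ⟨b, h⟩
      · exact Or.inl h
      · exact Or.inr h
      · exfalso
        rw [h, Frame.ww, Rel.t, mul_assoc, D.e.is_pt, D.e.pt_mul', D.e.pt_mul', mul_left_inj,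
          D.e.pt_inj] at hcomm
        exact D.e.m_ne_zero (by linear_combination -hcomm.1)
    · exfalso
      rcases D.e.swap.side_sq_eq_z hm (hd12.trans D.e.swap_z.symm) with h | h | ⟨b, h⟩
      · exact D.no_mixing (D.e.dd_mem _) (h ▸ hdS hd₁)
      · exact D.no_mixing (D.e.dd_mem _) ((h ▸ hdS hd₁).trans (conj_S D.e.swap.dd_neg_q_conj))
      · rw [h, D.e.swap_ww, Rel.t, mul_assoc, D.e.s_pt, D.e.pt_mul', D.e.pt_mul', mul_left_inj,
          D.e.pt_inj] at hcomm
        exact D.e.m_ne_zero (by linear_combination -hcomm.1)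
  refine ⟨g, hmain.imp (fun h => by rw [hd₁, h]) (fun h => by rw [hd₁, h]), ?_⟩
  rcases hmain with rfl | rfl
  · rw [D.e.t_eq, mul_right_inj] at hprod
    exact Or.inl (by rw [hw₁, hprod])
  · refine Or.inr (hw₁.trans (congrArg Subtype.val ?_))
    refine mul_left_cancel (a := D.e.dd (-D.e.q)) (hprod.trans ?_)
    rw [D.e.t_eq, D.e.swap_dd, D.e.swap_dd, Frame.dd, Frame.dd, D.e.pt_mul, D.e.pt_mul,
      D.e.pt_inj]
    exact ⟨by linear_combination (2 : ZMod D.e.N) * D.e.q_add_q + D.e.m_add_m, by ring⟩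

/-- All square roots of `z` outside the diagonal of the second side fuse to the diagonal one. -/
theorem swap_ww_conj (a : ZMod D.e.N) :
    IsConj (D.e.swap.ww a : X) (D.e.swap.dd D.e.q : X) := by
  obtain ⟨g, -, hg⟩ := D.exists_fusion
  have hwd : IsConj (D.e.swap.ww (-D.e.q) : X) (D.e.swap.dd D.e.q : X) := by
    rcases hg with h | h
    · exact isConj_iff.2 ⟨g, h⟩
    · exact (isConj_iff.2 ⟨g, h⟩ : IsConj (D.e.swap.ww (-D.e.q) : X) _).trans
        (conj_S D.e.swap.dd_neg_q_conj)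
  refine IsConj.trans ?_ hwd
  exact conj_S (h := D.e.swap.pt (-D.e.q - a) 0) (by
    rw [D.e.swap.pt_conj_ww]; congr 1; ring)

/-- All square roots of `z` of the first side fuse to the diagonal one. -/
theorem side_conj_dd {w : ↥(S : Subgroup X)} (hw : w ∈ D.e.side) (hw2 : w * w = D.e.z) :
    IsConj (w : X) (D.e.dd D.e.q : X) := by
  rcases D.e.side_sq_eq_z hw hw2 with h | h | ⟨a, h⟩ <;> subst h
  · exact IsConj.refl _
  · exact conj_S D.e.dd_neg_q_conj
  · have := D.swap.swap_ww_conj a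
    rw [show D.swap.e.swap.ww a = D.e.ww a from D.e.swap_swap_ww a,
      show D.swap.e.swap.dd D.swap.e.q = D.e.dd D.e.q from D.e.swap_swap_dd D.e.q] at this
    exact this

theorem swap_side_conj_dd {w : ↥(S : Subgroup X)} (hw : w ∈ D.e.swap.side) (hw2 : w * w = D.e.z) :
    IsConj (w : X) (D.e.swap.dd D.e.q : X) :=
  D.swap.side_conj_dd hw (hw2.trans D.e.swap_z.symm)

end Cfg

end Cfsg.Agent.Grp.GTwoSylow
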