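import Cfsg.Agent.Lib.Grp.GTwoCent.Solv
import Cfsg.Agent.Lib.Grp.Frattini
import Cfsg.Agent.Lib.Grp.GTwoSylow.Fusion
import Cfsg.Agent.Lib.Grp.GTwoSylow.Builder

/-!
# The structure of the centralizer of an involution modulo its core
-/

set_option autoImplicit false

open scoped commutatorElement

namespace Cfsg.Agent.Grp.GTwoSylow

open Subgroup Rel Frame

namespace Cfg

universe u

variable {X : Type u} [Group X] [Finite X] {S : Sylow 2 X} (D : Cfg S)

/-- The component of one side. -/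
theorem component (hO : Cfsg.pPrimeCore 2 X = ⊥) : ∃ L : Subgroup X, L.Normal ∧ D.N1 ≤ L ∧
    L ≤ centralizer (D.N2 : Set X) ∧ L ≤ commutator X ∧
    (∃ (F : Type) (_ : Field F) (_ : Fintype F), Odd (Fintype.card F) ∧
      Nonempty (↥L ≃* Matrix.SpecialLinearGroup (Fin 2) F)) ∧
    (∀ g ∈ commutator X, ∃ x ∈ L, x⁻¹ * g ∈ centralizer (D.N1 : Set X)) ∧
    ∀ a ∈ L, a ∈ D.N1 ∨ a ^ 3 ∈ D.N1 := by
  rcases D.dichotomy hO with ⟨hN, hk⟩ | ⟨F, hF, hFf, hodd, h3, ⟨e⟩⟩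
  · obtain ⟨hX, hSL, hadj, hcube⟩ := D.solvable_side hO hN hk
    exact ⟨centralizer (D.N2 : Set X), inferInstance, D.N1_le_cent hO, le_rfl, hX,
      ⟨ZMod 3, inferInstance, inferInstance, ⟨1, by simp⟩, hSL⟩, hadj, fun a ha => Or.inr (hcube a ha)⟩
  · refine ⟨D.N1, inferInstance, le_rfl, D.N1_le_cent hO, ?_, ⟨F, hF, hFf, hodd, ⟨e⟩⟩,
      fun g hg => Invol.GW.exists_inner_adjust hodd h3 D.N1 e hg, fun a ha => Or.inl ha⟩
    intro r hr
    have h1 := D.perfect_N1 hO h3 e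
    have h2 : (commutator ↥D.N1).map D.N1.subtype ≤ commutator X := by
      rw [_root_.commutator_def, Subgroup.map_commutator]
      exact Subgroup.commutator_mono le_top le_top
    exact h2 ⟨⟨r, hr⟩, h1 ▸ mem_top _, rfl⟩

include D in
/-- The derived group is the central product of two groups `SL₂`. -/
theorem structure_thm (hO : Cfsg.pPrimeCore 2 X = ⊥) : ∃ L₁ L₂ : Subgroup X, L₁.Normal ∧ L₂.Normal ∧
    (∃ (F₁ : Type) (_ : Field F₁) (_ : Fintype F₁), Odd (Fintype.card F₁) ∧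
      Nonempty (↥L₁ ≃* Matrix.SpecialLinearGroup (Fin 2) F₁)) ∧
    (∃ (F₂ : Type) (_ : Field F₂) (_ : Fintype F₂), Odd (Fintype.card F₂) ∧
      Nonempty (↥L₂ ≃* Matrix.SpecialLinearGroup (Fin 2) F₂)) ∧
    ⁅L₁, L₂⁆ = ⊥ ∧ L₁ ⊔ L₂ = commutator X := by
  obtain ⟨L1, hn1, hN1, hc1, hX1, hSL1, hadj1, hcube1⟩ := D.component hO
  obtain ⟨L2, hn2, hN2, hc2, hX2, hSL2, hadj2, hcube2⟩ := D.swap.component hO
  rw [show D.swap.N1 = D.N2 from rfl] at hN2 hadj2 hcube2
  rw [D.swap_N2 hO] at hc2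
  refine ⟨L1, L2, hn1, hn2, hSL1, hSL2, ?_, le_antisymm (sup_le hX1 hX2) fun g hg => ?_⟩
  · refine eq_bot_iff.2 (Subgroup.commutator_le.2 fun a ha b hb => Subgroup.mem_bot.2 ?_)
    have hab : ∀ y ∈ D.N1, y * b = b * y := fun y hy => mem_centralizer_iff.1 (hc2 hb) y hy
    rcases hcube1 a ha with h | h
    · exact commutatorElement_eq_one_iff_mul_comm.2 (hab a h)
    have hεz : ⁅a, b⁆ ∈ D.zX := by
      refine D.cent_inter hO ⟨?_, ?_⟩
      · rw [commutatorElement_def]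
        exact mul_mem ((inferInstance : (centralizer (D.N1 : Set X)).Normal).conj_mem b (hc2 hb) a)
          ((centralizer (D.N1 : Set X)).inv_mem (hc2 hb))
      · rw [commutatorElement_def, mul_assoc, mul_assoc, ← mul_assoc b]
        exact mul_mem (hc1 ha) ((inferInstance : (centralizer (D.N2 : Set X)).Normal).conj_mem _
          ((centralizer (D.N2 : Set X)).inv_mem (hc1 ha)) b)
    set ε := ⁅a, b⁆ with hε
    have hε2 : ε * ε = 1 := by
      rcases D.mem_zX.1 hεz with h | h <;> rw [h]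
      · rw [one_mul]
      · rw [← Subgroup.coe_mul, D.e.z_sq, Subgroup.coe_one]
    have hεc := mem_center_iff.1 (D.zX_center hεz)
    have h1 : a * b * a⁻¹ = ε * b := by rw [hε, commutatorElement_def]; group
    have h3 : a ^ 3 * b * (a ^ 3)⁻¹ = ε * b := by
      calc a ^ 3 * b * (a ^ 3)⁻¹ = a * (a * (a * b * a⁻¹) * a⁻¹) * a⁻¹ := by
            simp only [pow_succ, pow_zero, one_mul, mul_inv_rev, mul_assoc]
        _ = a * (a * ε * b * a⁻¹) * a⁻¹ := by rw [h1, ← mul_assoc a ε]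
        _ = a * (ε * (a * b * a⁻¹)) * a⁻¹ := by rw [hεc a]; group
        _ = a * (ε * ε * b) * a⁻¹ := by rw [h1, mul_assoc ε ε b]
        _ = ε * b := by rw [hε2, one_mul, h1]
    rw [hab _ h, mul_inv_cancel_right, eq_comm, mul_eq_right] at h3
    exact h3
  · obtain ⟨x1, hx1, hg1⟩ := hadj1 g hg
    obtain ⟨x2, hx2, hg2⟩ := hadj2 (x1⁻¹ * g) (mul_mem ((commutator X).inv_mem (hX1 hx1)) hg)
    have hr : x2⁻¹ * (x1⁻¹ * g) ∈ D.zX :=
      D.cent_inter hO ⟨mul_mem ((centralizer (D.N1 : Set X)).inv_mem (hc2 hx2)) hg1, hg2⟩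
    rw [show g = x1 * (x2 * (x2⁻¹ * (x1⁻¹ * g))) by group]
    exact mul_mem (le_sup_left (a := L1) hx1) (le_sup_right (b := L2)
      (mul_mem hx2 (hN2 (D.sup_zX_N1 hr))))

end Cfg

section Simple

variable {G : Type*} [Group G] [Finite G] {S : Sylow 2 G} (e : Frame ↥(S : Subgroup G))

theorem dd_q_comm_i : ⁅e.dd e.q, e.i⁆ = e.z := by
  rw [commutatorElement_def, mul_assoc (e.dd e.q), mul_assoc (e.dd e.q), e.dd_inv, Frame.dd,
    Frame.dd, e.i_conj_pt, neg_neg, e.pt_mul, e.q_add_q]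
  rfl

/-- With one class of involutions, `z` can be fixed while `s` moves to `t`. -/
theorem exists_fix_z (h1 : ∀ x y : G, orderOf x = 2 → orderOf y = 2 → IsConj x y) :
    ∃ h : G, h * (e.z : G) = e.z * h ∧ h * (e.s : G) * h⁻¹ = e.t := by
  have ord : ∀ p : ↥(S : Subgroup G), p * p = 1 → p ≠ 1 → orderOf (p : G) = 2 := fun p h hp => by
    rw [Subgroup.orderOf_coe]; exact orderOf_eq_prime (by rw [pow_two, h]) hp
  have hz := ord _ e.z_sq e.z_ne_one
  have hs1 : e.s ≠ 1 := fun h => e.s_ne 0 0 (by rw [e.pt_zero, h])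
  have hzs : e.z ≠ e.s := fun h => e.s_ne _ _ h
  have ht2 : e.t * e.t = 1 := by rw [Rel.t, e.pt_mul, e.m_add_m, add_zero, e.pt_zero]
  have hzt : e.z ≠ e.t := fun h => e.m_ne_zero (e.pt_inj.1 h).2
  -- the image of `z` under a move of a non-central involution onto `z`
  have key : ∀ r : ↥(S : Subgroup G), r * r = 1 → r ≠ 1 → e.z ≠ r →
      e.dd e.q * r = r * e.dd e.q → (e.i * r = r * e.i) →
      ∃ g : G, g * (r : G) * g⁻¹ = e.z ∧ g * (e.z : G) * g⁻¹ = e.t := by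
    intro r hr2 hr1 hrz hdr hir
    obtain ⟨g, hg, hgC⟩ := conj_cent e (h1 _ _ (ord r hr2 hr1) hz)
    obtain ⟨dg, hdg⟩ : ∃ w : ↥(S : Subgroup G), g * (e.dd e.q : G) * g⁻¹ = w := ⟨⟨_, hgC _ hdr⟩, rfl⟩
    obtain ⟨ig, hig⟩ : ∃ w : ↥(S : Subgroup G), g * (e.i : G) * g⁻¹ = w := ⟨⟨_, hgC _ hir⟩, rfl⟩
    have hgz : g * (e.z : G) * g⁻¹ = (⁅dg, ig⁆ : ↥(S : Subgroup G)) := by
      rw [← dd_q_comm_i e]
      simp only [commutatorElement_def, Subgroup.coe_mul, InvMemClass.coe_inv, ← hdg, ← hig]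
      group
    have hcls : e.cls ⁅dg, ig⁆ = 1 := by
      rw [map_commutatorElement]
      exact commutatorElement_eq_one_iff_mul_comm.2 (mul_comm _ _)
    obtain ⟨a, b, hab⟩ := e.mem_base.1 (MonoidHom.mem_ker.2 hcls)
    have hsq : e.pt a b * e.pt a b = 1 := Subtype.ext (by
      rw [Subgroup.coe_mul, Subgroup.coe_one, ← hab, ← hgz]
      calc g * (e.z : G) * g⁻¹ * (g * e.z * g⁻¹) = g * ((e.z * e.z : ↥(S : Subgroup G)) : G) * g⁻¹ := by
            rw [Subgroup.coe_mul]; group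
        _ = 1 := by rw [e.z_sq, Subgroup.coe_one]; group)
    rw [e.pt_mul, e.pt_eq_one_iff, e.two_eq_zero_iff, e.two_eq_zero_iff] at hsq
    rw [hab] at hgz
    obtain ⟨rfl | rfl, rfl | rfl⟩ := hsq
    · rw [e.pt_zero, Subgroup.coe_one, conj_eq_one_iff] at hgz
      exact absurd (Subtype.ext hgz) e.z_ne_one
    · refine ⟨(e.s : G) * g, ?_, ?_⟩
      · calc (e.s : G) * g * r * ((e.s : G) * g)⁻¹ = (e.s : G) * (g * r * g⁻¹) * (e.s : G)⁻¹ := by group
          _ = _ := by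
            rw [hg, ← Subgroup.coe_mul, e.z_central e.s, Subgroup.coe_mul, mul_inv_cancel_right]
      · calc (e.s : G) * g * e.z * ((e.s : G) * g)⁻¹
              = (e.s : G) * (g * e.z * g⁻¹) * (e.s : G)⁻¹ := by group
          _ = _ := by
            rw [hgz]
            exact congrArg Subtype.val (e.s_conj_pt 0 e.m)
    · exact ⟨g, hg, hgz⟩
    · have h2 := mul_left_cancel (mul_right_cancel (hgz.trans hg.symm))
      exact absurd (Subtype.ext h2) hrz
  obtain ⟨g, hg, hgz⟩ := key e.s e.ss hs1 hzs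
    (by
      refine e.commute_dd ?_ _ |>.symm
      rw [← one_mul e.s, ← e.pt_zero, e.cls_s]; rfl)
    e.si.symm
  obtain ⟨g2, hg2, hg2z⟩ := key e.t ht2 e.t_ne_one hzt
    (by rw [Frame.dd, Rel.t, e.pt_mul, e.pt_mul, add_comm e.q e.m, add_comm e.q 0])
    (e.commute_t (by rw [← one_mul e.i, ← e.pt_zero, e.cls_i]; rfl))
  refine ⟨g2 * g, ?_, ?_⟩
  · refine mul_inv_eq_iff_eq_mul.1 ?_
    calc g2 * g * (e.z : G) * (g2 * g)⁻¹ = g2 * (g * e.z * g⁻¹) * g2⁻¹ := by group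
      _ = e.z := by rw [hgz, hg2]
  · calc g2 * g * (e.s : G) * (g2 * g)⁻¹ = g2 * (g * e.s * g⁻¹) * g2⁻¹ := by group
      _ = e.t := by rw [hg, hg2z]

include e in
/-- The centralizer of a central involution modulo its core has the configuration. -/
theorem exists_cfg (h1 : ∀ x y : G, orderOf x = 2 → orderOf y = 2 → IsConj x y) (t : G)
    (ht : orderOf t = 2) (htS : t ∈ (S : Subgroup G))
    (htZ : ∀ s ∈ (S : Subgroup G), s * t = t * s) :
    ∃ T : Sylow 2 (↥(centralizer ({t} : Set G)) ⧸ Cfsg.oddCore ↥(centralizer ({t} : Set G))),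
      Nonempty (Cfg T) := by
  haveI : Fact (Nat.Prime 2) := ⟨Nat.prime_two⟩
  have htz : t = (e.z : G) := by
    rcases e.cases_center (g := ⟨t, htS⟩) (fun x => Subtype.ext (htZ x x.2).symm) with h | h
    · have h' : t = 1 := congrArg Subtype.val h
      rw [h', orderOf_one] at ht
      norm_num at ht
    · exact congrArg Subtype.val h
  subst htz
  set C := centralizer ({(e.z : G)} : Set G)
  have hSC : (S : Subgroup G) ≤ C := fun c hc => mem_centralizer_singleton_iff.2 (htZ c hc)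
  let K := Cfsg.oddCore ↥C
  let π : ↥C →* ↥C ⧸ K := QuotientGroup.mk' K
  let SC : Sylow 2 ↥C := S.subtype hSC
  let T : Sylow 2 (↥C ⧸ K) := SC.mapSurjective (QuotientGroup.mk'_surjective K)
  let φ : ↥(S : Subgroup G) →* ↥C ⧸ K := π.comp (Subgroup.inclusion hSC)
  have hrange : ∀ y, y ∈ φ.range ↔ y ∈ (T : Subgroup (↥C ⧸ K)) := fun y => by
    constructor
    · rintro ⟨p, rfl⟩
      exact ⟨⟨(p : G), hSC p.2⟩, p.2, rfl⟩
    · rintro ⟨c, hc, rfl⟩
      exact ⟨⟨(c : G), hc⟩, rfl⟩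
  have hinj : Function.Injective φ := by
    refine (MonoidHom.ker_eq_bot_iff φ).1 (eq_bot_iff.2 fun p hp => ?_)
    have h2 : Subgroup.inclusion hSC p ∈ K := (QuotientGroup.eq_one_iff _).1 hp
    obtain ⟨n, hn⟩ := IsPGroup.iff_orderOf.1 S.isPGroup' p
    rw [Subgroup.mem_bot, ← orderOf_eq_one_iff]
    refine Nat.eq_one_of_dvd_coprimes ((Grp.pPrimeCore_coprime (p := 2) (G := ↥C)).pow_right n) ?_ hn.dvd
    refine (dvd_of_eq ?_).trans (Subgroup.orderOf_dvd_natCard _ h2)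
    exact (orderOf_injective _ (Subgroup.inclusion_injective hSC) p).symm
  let f : ↥(S : Subgroup G) ≃* ↥(T : Subgroup (↥C ⧸ K)) :=
    (MonoidHom.ofInjective hinj).trans (MulEquiv.subgroupCongr (SetLike.ext hrange))
  let eT := e.map f
  have hpt : ∀ a b : ZMod e.N, f (e.pt a b) = eT.pt a b := fun a b => by
    show f (e.x ^ a.val * e.y ^ b.val) = (f e.x) ^ a.val * (f e.y) ^ b.val
    rw [map_mul, map_pow, map_pow]
  have hcoe : ∀ p, ((f p : ↥(T : Subgroup (↥C ⧸ K))) : ↥C ⧸ K) = φ p := fun p => rfl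
  have hconj : ∀ (a b : ↥(S : Subgroup G)) (h : G), h * (e.z : G) = e.z * h → h * (a : G) * h⁻¹ = b →
      IsConj ((f a : ↥(T : Subgroup (↥C ⧸ K))) : ↥C ⧸ K) ((f b : ↥(T : Subgroup (↥C ⧸ K))) : ↥C ⧸ K) := by
    intro a b h hz hab
    rw [hcoe, hcoe]
    refine isConj_iff.2 ⟨π ⟨h, mem_centralizer_singleton_iff.2 hz⟩, ?_⟩
    show π _ * π _ * (π _)⁻¹ = π _
    rw [← map_mul, ← map_inv, ← map_mul]
    exact congrArg π (Subtype.ext hab)
  refine ⟨T, ⟨{ e := eT, zc := fun g => ?_, fs := ?_, fis := ?_ }⟩⟩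
  · obtain ⟨c, rfl⟩ := QuotientGroup.mk'_surjective K g
    rw [show eT.z = f e.z from (hpt e.m e.m).symm, hcoe]
    show π c * π _ = π _ * π c
    rw [← map_mul, ← map_mul]
    exact congrArg π (Subtype.ext (mem_centralizer_singleton_iff.1 c.2))
  · obtain ⟨h, hz, hs⟩ := exists_fix_z e h1
    rw [show eT.t = f e.t from (hpt e.m 0).symm]
    exact hconj e.s e.t h hz hs
  · obtain ⟨h, hz, hs⟩ := exists_fix_z e.swap h1
    rw [show eT.t = f e.t from (hpt e.m 0).symm, show eT.i * eT.s = f (e.i * e.s) from (map_mul f _ _).symm]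
    rw [show e.swap.z = e.z from e.swap_z] at hz
    rw [show e.swap.t = e.t from e.swap_t] at hs
    exact hconj (e.i * e.s) e.t h hz hs

end Simple

end Cfsg.Agent.Grp.GTwoSylow
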