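import Cfsg.Agent.Lib.Grp.GTwoCent.Closed
import Cfsg.Agent.S2767
import Cfsg.Agent.Lib.Grp.Cores
import Cfsg.Agent.Lib.Fus.OddSylowCyclicDerived
import Cfsg.Agent.Lib.Invol.GW.Consumers.CentStruct
import Cfsg.Agent.Lib.Invol.GW.Consumers.SevenSylow
import Cfsg.Agent.Lib.Invol.GW.Consumers.OutAdjust
import Cfsg.Agent.Lib.Invol.GW.Dihedral.ThreeDoneFinal
import Cfsg.Agent.S2119

/-!
# The normal closures of the two sides
-/

set_option autoImplicit false

open scoped commutatorElement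

namespace Cfsg.Agent.Grp.GTwoSylow

open Subgroup Rel Frame

namespace Frame

variable {T : Type*} [Group T] (e : Frame T)

theorem side_sq_one {g : T} (hg : g ∈ e.side) (h : g * g = 1) : g = 1 ∨ g = e.z := by
  rcases hg with ⟨c, rfl⟩ | ⟨a, rfl⟩
  · rw [dd_mul_dd, ← dd_zero] at h
    exact (e.two_eq_zero_iff.1 (e.dd_inj h)).imp (fun hc => by rw [hc, dd_zero]) fun hc => by
      rw [hc]; rfl
  · exact absurd (h.symm.trans (e.ww_sq a)).symm e.z_ne_one

/-- Elements whose commutator with the second side is central lie in the product of the sides. -/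
theorem exists_mul_of_commutator {p : T}
    (h : ∀ w ∈ e.swap.side, p * w * p⁻¹ * w⁻¹ = 1 ∨ p * w * p⁻¹ * w⁻¹ = e.z) :
    ∃ p1 ∈ e.side, ∃ p2 ∈ e.swap.side, p = p1 * p2 := by
  suffices hkey : ∀ a b : ZMod e.N, ∀ u : T,
      (u * e.swap.ww 0 * u⁻¹ = e.swap.ww 0 ∨ u * e.swap.ww 0 * u⁻¹ = e.z * e.swap.ww 0) →
      p = e.pt a b * u → ∃ c, a + b = c + c by
    obtain ⟨a, b, hp⟩ := e.cases4 p
    have hu : ∃ c, a + b = c + c := by
      have h0 : e.swap.ww 0 = e.pt 0 e.m * e.s := by rw [swap_ww, sub_zero]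
      have hzm : e.z * e.swap.ww 0 = e.pt e.m 0 * e.s := by
        rw [h0, Rel.z, e.pt_mul', add_zero, e.m_add_m]
      rcases hp with rfl | rfl | rfl | rfl
      · exact hkey a b 1 (Or.inl (by group)) (mul_one _).symm
      · refine hkey a b _ (Or.inl ?_) rfl
        rw [h0, e.i_inv, e.i_pt', neg_zero, e.neg_m, mul_assoc, mul_assoc, e.si, e.ii']
      · refine hkey a b _ (Or.inr ?_) rfl
        rw [hzm, h0, e.s_inv, e.s_pt', mul_assoc, mul_assoc, e.ss, mul_one]
      · refine hkey a b _ (Or.inr ?_) rfl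
        rw [hzm, h0, mul_inv_rev, e.i_inv, e.s_inv, e.is_pt', neg_zero, e.neg_m, mul_assoc]
        congr 1
        rw [mul_assoc e.i, mul_assoc, e.ss, one_mul, e.si, e.ii']
    obtain ⟨c, hc⟩ := hu
    rcases hp with rfl | rfl | rfl | rfl
    · refine ⟨e.dd c, e.dd_mem c, e.swap.dd (a - c), e.swap.dd_mem _, ?_⟩
      rw [swap_dd, dd, e.pt_mul, e.pt_inj]
      exact ⟨by ring, by linear_combination hc⟩
    · refine ⟨e.ww c, e.ww_mem c, e.swap.ww (c + e.m - b), e.swap.ww_mem _, ?_⟩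
      rw [swap_ww, ww, mul_assoc, e.is_pt', e.pt_mul']
      congr 1
      · rw [e.pt_inj]
        exact ⟨by linear_combination hc, by ring⟩
      · rw [mul_assoc, e.ss, mul_one]
    · refine ⟨e.dd (c + e.q), e.dd_mem _, e.swap.ww (a - c - e.q), e.swap.ww_mem _, ?_⟩
      rw [dd_swap_ww]
      congr 2
      · ring
      · linear_combination hc - e.q_add_q - e.m_add_m
    · refine ⟨e.ww (c + e.q), e.ww_mem _, e.swap.dd (a - c - e.q), e.swap.dd_mem _, ?_⟩
      rw [swap_dd, ww, mul_assoc, e.is_pt, e.pt_mul']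
      congr 2
      · ring
      · linear_combination hc - e.q_add_q - e.m_add_m
  intro a b u hu hp
  have h1 := h _ (e.swap.ww_mem 0)
  obtain ⟨ε, hε, hconj⟩ : ∃ ε, (ε = 0 ∨ ε = e.m) ∧
      u * e.swap.ww 0 * u⁻¹ = e.pt ε (e.m + ε) * e.s := by
    rcases hu with hu | hu
    · exact ⟨0, Or.inl rfl, by rw [hu, swap_ww, sub_zero, add_zero]⟩
    · refine ⟨e.m, Or.inr rfl, ?_⟩
      rw [hu, swap_ww, sub_zero, Rel.z, e.pt_mul', add_zero]
  have hval : p * e.swap.ww 0 * p⁻¹ * (e.swap.ww 0)⁻¹ =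
      e.pt (a - b + ε) (b - a + ε) := by
    rw [hp, mul_inv_rev, show e.pt a b * u * e.swap.ww 0 * (u⁻¹ * (e.pt a b)⁻¹) =
      e.pt a b * (u * e.swap.ww 0 * u⁻¹) * (e.pt a b)⁻¹ by group, hconj, swap_ww, sub_zero,
      e.pt_inv, mul_assoc (e.pt a b), mul_assoc (e.pt ε _), e.s_pt, mul_inv_rev, e.s_inv, e.pt_inv,
      e.pt_mul', e.pt_mul', mul_assoc, e.ss', e.pt_mul, e.pt_inj]
    constructor <;> ring
  rw [hval, e.pt_eq_one_iff, Rel.z, e.pt_inj] at h1
  have hm : ∃ c, a - b = c + c := by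
    rcases hε with rfl | rfl <;> rcases h1 with h1 | h1
    · exact ⟨0, by linear_combination h1.1⟩
    · exact ⟨e.q, by linear_combination h1.1 - e.q_add_q⟩
    · exact ⟨e.q, by linear_combination h1.1 - e.q_add_q - e.m_add_m⟩
    · exact ⟨0, by linear_combination h1.1⟩
  obtain ⟨c, hc⟩ := hm
  exact ⟨c + b, by linear_combination hc⟩

end Frame

namespace Cfg

universe u

variable {X : Type u} [Group X] [Finite X] {S : Sylow 2 X} (D : Cfg S)

/-- The group generated by the central involution. -/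
def zX : Subgroup X := zpowers (D.e.z : X)

omit [Finite X] in
theorem mem_zX {x : X} : x ∈ D.zX ↔ x = 1 ∨ x = D.e.z := by
  refine ⟨?_, ?_⟩
  · rintro ⟨n, rfl⟩
    have h2 : (D.e.z : X) ^ (2 : ℤ) = 1 := by
      rw [zpow_two, ← Subgroup.coe_mul, D.e.z_sq, Subgroup.coe_one]
    rcases Int.even_or_odd' n with ⟨j, rfl | rfl⟩
    · left
      simp only [zpow_mul, h2, one_zpow]
    · right
      simp only [zpow_add, zpow_mul, h2, one_zpow, one_mul, zpow_one]
  · rintro (rfl | rfl)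
    exacts [one_mem _, mem_zpowers _]

omit [Finite X] in
theorem zX_center : D.zX ≤ center X := zpowers_le.2 (mem_center_iff.2 fun g => D.zc g)

instance zX_normal : D.zX.Normal :=
  ⟨fun x hx g => by rwa [mem_center_iff.1 (D.zX_center hx) g, mul_inv_cancel_right]⟩

omit [Finite X] in
theorem card_zX : Nat.card ↥D.zX = 2 := by
  rw [zX, Nat.card_zpowers, Subgroup.orderOf_coe]
  exact orderOf_eq_prime (by rw [pow_two, D.e.z_sq]) D.e.z_ne_one

theorem swap_zX : D.swap.zX = D.zX := by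
  rw [zX, zX, show D.swap.e.z = D.e.z from D.e.swap_z]

/-- The normal closure of the first side. -/
def N1 : Subgroup X := normalClosure (D.sideX : Set X)

/-- The normal closure of the second side. -/
def N2 : Subgroup X := normalClosure (D.swap.sideX : Set X)

instance N1_normal : D.N1.Normal := normalClosure_normal

instance N2_normal : D.N2.Normal := normalClosure_normal

theorem N2_eq : D.N2 = D.swap.N1 := rfl

omit [Finite X] in
theorem sideX_le_N1 : D.sideX ≤ D.N1 := Subgroup.le_normalClosure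

theorem swap_sideX_le_N2 : D.swap.sideX ≤ D.N2 := Subgroup.le_normalClosure

omit [Finite X] in
theorem zX_le_sideX : D.zX ≤ D.sideX := zpowers_le.2 (D.coe_mem_sideX.2 D.e.z_mem_side)

omit [Finite X] in
theorem zX_le_N1 : D.zX ≤ D.N1 := D.zX_le_sideX.trans D.sideX_le_N1

omit [Finite X] in
theorem exists_W {H : Subgroup X} {p : ↥(S : Subgroup X)} (hp : p ∈ D.e.side) (hpH : (p : X) ∈ H)
    (hpz : (p : X) ∉ D.zX) : ∃ w ∈ D.e.side, w * w = D.e.z ∧ (w : X) ∈ H := by
  have key : ∀ n : ℕ, ∀ p : ↥(S : Subgroup X), p ∈ D.e.side → (p : X) ∈ H → (p : X) ∉ D.zX →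
      p ^ 2 ^ n = 1 → ∃ w ∈ D.e.side, w * w = D.e.z ∧ (w : X) ∈ H := by
    intro n
    induction n with
    | zero =>
      intro p _ _ hpz h
      rw [pow_zero, pow_one] at h
      exact absurd (D.mem_zX.2 (Or.inl (by rw [h]; rfl))) hpz
    | succ n ih =>
      intro p hp hpH hpz h
      by_cases h2 : ((p * p : ↥(S : Subgroup X)) : X) ∈ D.zX
      · refine ⟨p, hp, ?_, hpH⟩
        rcases D.mem_zX.1 h2 with h2 | h2
        · refine absurd ?_ hpz
          exact D.mem_zX.2 ((D.e.side_sq_one hp (Subtype.ext h2)).imp (fun h => by rw [h]; rfl)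
            fun h => by rw [h])
        · exact Subtype.ext h2
      · exact ih (p * p) (mul_mem hp hp) (mul_mem hpH hpH) h2 (by
          rw [← pow_two, ← pow_mul, ← pow_succ']; exact h)
  obtain ⟨n, hn⟩ := S.isPGroup' p
  exact key n p hp hpH hpz hn

/-- A normal subgroup meeting the side outside `⟨z⟩` contains the normal closure. -/
theorem N1_le {M : Subgroup X} [hM : M.Normal] {p : ↥(S : Subgroup X)} (hp : p ∈ D.e.side)
    (hpM : (p : X) ∈ M) (hpz : (p : X) ∉ D.zX) : D.N1 ≤ M := by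
  obtain ⟨w, hw, hw2, hwM⟩ := D.exists_W hp hpM hpz
  refine Subgroup.normalClosure_le_normal ?_
  rintro _ ⟨p', hp', rfl⟩
  have hle : D.e.side ≤ M.comap (S : Subgroup X).subtype := D.e.side_le fun a => by
    obtain ⟨g, hg⟩ := isConj_iff.1 ((D.side_conj_dd hw hw2).trans
      (D.side_conj_dd (D.e.ww_mem a) (D.e.ww_sq a)).symm)
    show (D.e.ww a : X) ∈ M
    rw [← hg]
    exact hM.conj_mem _ hwM g
  exact hle hp'

theorem side_not_le : ¬ D.sideX ≤ D.zX := fun h => by
  rcases D.mem_zX.1 (h (D.coe_mem_sideX.2 (D.e.dd_mem D.e.q))) with h' | h'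
  · exact (D.e.side_central D.e.dd_q_sq).1 (Subtype.ext h')
  · exact (D.e.side_central D.e.dd_q_sq).2 (Subtype.ext h')

variable (hO : Cfsg.pPrimeCore 2 X = ⊥)
include hO

/-- The two normal closures commute modulo `⟨z⟩`. -/
theorem comm_mem {a b : X} (ha : a ∈ D.N1) (hb : b ∈ D.N2) : ⁅a, b⁆ ∈ D.zX := by
  have h := S2767.result S D.sideX D.swap.sideX D.closed D.swap.closed (by
    rintro _ ⟨p, hp, rfl⟩ _ ⟨r, hr, rfl⟩
    exact congrArg Subtype.val (D.e.side_commute hp hr))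
  rw [hO, sup_bot_eq] at h
  refine (h.trans (Subgroup.normalClosure_le_normal ?_))
    (Subgroup.commutator_mem_commutator ha hb)
  rintro _ ⟨⟨p, hp, rfl⟩, hp2⟩
  have hp2' : p ∈ D.e.swap.side := D.swap.coe_mem_sideX.1 hp2
  exact D.mem_zX.2 ((D.e.side_inter hp hp2').imp (fun h => by rw [h]; rfl) fun h => by rw [h]; rfl)

/-- No nontrivial part of the second side lies in the first normal closure. -/
theorem swap_side_not_mem {p : ↥(S : Subgroup X)} (hp : p ∈ D.e.swap.side) (hpN : (p : X) ∈ D.N1) :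
    (p : X) ∈ D.zX := by
  by_contra hpz
  haveI : Fact (Nat.Prime 2) := ⟨Nat.prime_two⟩
  have hle : D.N2 ≤ D.N1 := D.swap.N1_le hp hpN (by rwa [D.swap_zX])
  have hNz : ∀ a ∈ D.N2, ∀ b ∈ D.N2, ⁅a, b⁆ ∈ D.zX := fun a ha b hb => D.comm_mem hO (hle ha) hb
  -- squares are central in the second normal closure
  have hsq : ∀ a ∈ D.N2, ∀ b ∈ D.N2, a * (b * b) = b * b * a := by
    intro a ha b hb
    obtain ⟨ε, hε, hεz⟩ : ∃ ε, ε * ε = 1 ∧ a * b * a⁻¹ = ε * b ∧ ε ∈ center X := by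
      refine ⟨⁅a, b⁆, ?_, by rw [commutatorElement_def]; group, D.zX_center (hNz a ha b hb)⟩
      rcases D.mem_zX.1 (hNz a ha b hb) with h | h <;> rw [h]
      · rw [one_mul]
      · rw [← Subgroup.coe_mul, D.e.z_sq, Subgroup.coe_one]
    have h1 : a * (b * b) * a⁻¹ = b * b := by
      calc a * (b * b) * a⁻¹ = (a * b * a⁻¹) * (a * b * a⁻¹) := by group
        _ = ε * (b * ε) * b := by rw [hεz.1]; group
        _ = ε * (ε * b) * b := by rw [mem_center_iff.1 hεz.2 b]
        _ = (ε * ε) * (b * b) := by group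
        _ = b * b := by rw [hε, one_mul]
    exact mul_inv_eq_iff_eq_mul.1 h1
  let K : Subgroup X :=
    { carrier := {x | x ∈ D.N2 ∧ ∃ o, Odd o ∧ x ^ o = 1}
      one_mem' := ⟨one_mem _, 1, odd_one, one_pow _⟩
      inv_mem' := fun ⟨h, o, ho, h1⟩ => ⟨inv_mem h, o, ho, by rw [inv_pow, h1, inv_one]⟩
      mul_mem' := by
        rintro x y ⟨hx, o, ho, hxo⟩ ⟨hy, o', ho', hyo⟩
        refine ⟨mul_mem hx hy, o * o', ho.mul ho', ?_⟩
        have hc : Commute x y := by
          obtain ⟨j, rfl⟩ := ho'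
          have hy' : y = (y ^ (j + 1)) * (y ^ (j + 1)) := by
            rw [← pow_add, show j + 1 + (j + 1) = 2 * j + 1 + 1 by ring, pow_succ, hyo, one_mul]
          show x * y = y * x
          rw [hy']
          exact hsq x hx _ (pow_mem hy _)
        rw [hc.mul_pow, pow_mul, hxo, one_pow, mul_comm o, pow_mul, hyo, one_pow, one_mul] }
  haveI : K.Normal := ⟨fun x hx g => ⟨(D.N2_normal).conj_mem x hx.1 g, by
    obtain ⟨o, ho, h1⟩ := hx.2
    exact ⟨o, ho, by rw [conj_pow, h1]; group⟩⟩⟩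
  have hK : K = ⊥ := by
    refine eq_bot_iff.2 (hO ▸ Grp.le_pPrimeCore inferInstance ?_)
    rw [Nat.coprime_comm, Nat.Prime.coprime_iff_not_dvd Nat.prime_two]
    intro h2
    obtain ⟨x, hx⟩ := exists_prime_orderOf_dvd_card' 2 h2
    obtain ⟨o, ho, h1⟩ := x.2.2
    have h3 : orderOf x ∣ o := orderOf_dvd_of_pow_eq_one (Subtype.ext h1)
    rw [hx] at h3
    exact (Nat.not_even_iff_odd.2 ho) (even_iff_two_dvd.2 h3)
  have h2g : IsPGroup 2 ↥D.N2 := by
    rintro ⟨x, hx⟩
    refine ⟨(orderOf x).factorization 2, Subtype.ext ?_⟩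
    rw [SubgroupClass.coe_pow]
    refine Subgroup.mem_bot.1 (hK ▸ (show x ^ _ ∈ K from ⟨pow_mem hx _,
      orderOf x / 2 ^ (orderOf x).factorization 2, ?_, ?_⟩))
    · exact Nat.odd_iff.2 (Nat.two_dvd_ne_zero.1 (Nat.not_dvd_ordCompl Nat.prime_two (orderOf_pos x).ne'))
    · rw [← pow_mul, Nat.ordProj_mul_ordCompl_eq_self, pow_orderOf_eq_one]
  have hN2S : D.N2 ≤ (S : Subgroup X) := h2g.le_sylow_of_normal S
  haveI hn : D.swap.sideX.Normal := ⟨fun x hx g => by
    have h := hN2S (D.N2_normal.conj_mem x (D.swap_sideX_le_N2 hx) g)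
    exact D.swap.closed.2 x hx g h⟩
  have hC : D.N1 ≤ centralizer (D.swap.sideX : Set X) := Subgroup.normalClosure_le_normal (by
    rintro _ ⟨r, hr, rfl⟩
    refine mem_centralizer_iff.2 ?_
    rintro _ ⟨r', hr', rfl⟩
    exact (congrArg Subtype.val (D.e.side_commute hr hr')).symm)
  have hQ : D.swap.sideX ≤ D.N1 := D.swap_sideX_le_N2.trans hle
  have h1 := mem_centralizer_iff.1 (hC (hQ (D.swap.coe_mem_sideX.2 (D.e.swap.ww_mem 0))))
    _ (D.swap.coe_mem_sideX.2 (D.e.swap.dd_mem D.e.q))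
  have h2 := D.e.swap.fst_of_commute_dd D.e.swap.q_add_q_ne
    (Subtype.ext h1.symm : D.e.swap.ww 0 * D.e.swap.dd D.e.q = D.e.swap.dd D.e.q * D.e.swap.ww 0)
  rw [D.e.swap.cls_ww] at h2
  exact absurd h2 (by decide)

/-- The side is a Sylow subgroup of its normal closure. -/
theorem mem_side_of_N1 {p : ↥(S : Subgroup X)} (hp : (p : X) ∈ D.N1) : p ∈ D.e.side := by
  obtain ⟨p1, hp1, p2, hp2, rfl⟩ := D.e.exists_mul_of_commutator (p := p) (fun w hw => by
    rcases D.mem_zX.1 (D.comm_mem hO hp (D.swap_sideX_le_N2 (D.swap.coe_mem_sideX.2 hw))) with h | h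
    · exact Or.inl (Subtype.ext h)
    · exact Or.inr (Subtype.ext h))
  have h2 : (p2 : X) ∈ D.N1 := by
    have h : (p1 : X) ∈ D.N1 := D.sideX_le_N1 (D.coe_mem_sideX.2 hp1)
    have := mul_mem (inv_mem h) hp
    rwa [Subgroup.coe_mul, inv_mul_cancel_left] at this
  exact mul_mem hp1 (D.coe_mem_sideX.1 (D.zX_le_sideX (D.swap_side_not_mem hO hp2 h2)))

/-- The Sylow subgroup of the normal closure. -/
theorem exists_sylow_N1 : ∃ P : Sylow 2 ↥D.N1, (P : Subgroup ↥D.N1) = (S : Subgroup X).subgroupOf D.N1 ∧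
    Nonempty ((P : Subgroup ↥D.N1) ≃* QuaternionGroup (2 ^ (D.e.k - 1))) := by
  haveI : Fact (Nat.Prime 2) := ⟨Nat.prime_two⟩
  obtain ⟨f⟩ := D.e.nonempty_side_quat
  let P : Sylow 2 ↥D.N1 := ((S.isPGroup').comap_of_injective D.N1.subtype D.N1.subtype_injective :
    IsPGroup 2 ((S : Subgroup X).subgroupOf D.N1)).toSylow (Grp.sylow_inf_normal_relIndex S D.N1)
  refine ⟨P, rfl, ⟨?_⟩⟩
  let φ : ↥D.e.side →* ↥((S : Subgroup X).subgroupOf D.N1) := MonoidHom.mk'
    (fun p => ⟨⟨((p : ↥(S : Subgroup X)) : X), D.sideX_le_N1 (D.coe_mem_sideX.2 p.2)⟩,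
      (p : ↥(S : Subgroup X)).2⟩) fun _ _ => rfl
  have hφ : Function.Bijective φ := by
    refine ⟨fun p r h => ?_, fun y => ⟨⟨⟨_, y.2⟩, D.mem_side_of_N1 hO y.1.2⟩, rfl⟩⟩
    exact Subtype.ext (Subtype.ext (congrArg (fun v : ↥((S : Subgroup X).subgroupOf D.N1) =>
      ((v : ↥D.N1) : X)) h))
  exact (MulEquiv.ofBijective φ hφ).symm.trans f

omit hO in
/-- If the side is normal then `N = 4`. -/
theorem k_eq_two_of_normal (hn : D.sideX.Normal) : D.e.k = 2 := by
  obtain ⟨g, hg⟩ := isConj_iff.1 (D.side_conj_dd (D.e.ww_mem 0) (D.e.ww_sq 0)).symm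
  by_contra hk
  have hk3 : 3 ≤ D.e.k := by have := D.e.hk; omega
  have h1 : g * (D.e.dd 1 : X) * g⁻¹ ∈ D.sideX := hn.conj_mem _ (D.coe_mem_sideX.2 (D.e.dd_mem 1)) g
  obtain ⟨p, hp, hpe⟩ := h1
  change (p : X) = g * (D.e.dd 1 : X) * g⁻¹ at hpe
  rcases hp with ⟨c, rfl⟩ | ⟨a, rfl⟩
  · have h2 : (D.e.dd 1) ^ (2 ^ (D.e.k - 2)) = D.e.dd D.e.q := by
      rw [D.e.dd_pow, mul_one]; rfl
    have h3 : D.e.ww 0 = (D.e.dd c) ^ (2 ^ (D.e.k - 2)) := Subtype.ext (by
      rw [SubgroupClass.coe_pow, hpe, conj_pow, ← SubgroupClass.coe_pow, h2, hg])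
    rw [D.e.dd_pow] at h3
    have := congrArg D.e.cls h3
    rw [D.e.cls_ww, D.e.cls_dd] at this
    exact absurd this (by decide)
  · have h4 : D.e.ww a ^ 4 = 1 := by
      rw [show (4 : ℕ) = 2 * 2 from rfl, pow_mul, pow_two, pow_two, D.e.ww_sq, D.e.z_sq]
    have h5 : D.e.dd 1 ^ 4 = 1 := Subtype.ext (by
      rw [SubgroupClass.coe_pow, Subgroup.coe_one, ← conj_eq_one_iff (a := g), ← conj_pow, ← hpe,
        ← SubgroupClass.coe_pow, h4, Subgroup.coe_one])
    rw [D.e.dd_pow, mul_one, ← D.e.dd_zero] at h5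
    have h6 := D.e.dd_inj h5
    rw [ZMod.natCast_eq_zero_iff] at h6
    have h7 := Nat.le_of_dvd (by norm_num) h6
    have h8 : 2 ^ 3 ≤ 2 ^ D.e.k := Nat.pow_le_pow_right two_pos hk3
    simp only [Rel.N] at h7
    omega

/-- Either the side is normal and `N = 4`, or its normal closure is `SL₂(q)`, `q > 3`. -/
theorem dichotomy : (D.N1 = D.sideX ∧ D.e.k = 2) ∨
    ∃ (F : Type) (_ : Field F) (_ : Fintype F), Odd (Fintype.card F) ∧ 3 < Fintype.card F ∧
      Nonempty (↥D.N1 ≃* Matrix.SpecialLinearGroup (Fin 2) F) := by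
  haveI : Fact (Nat.Prime 2) := ⟨Nat.prime_two⟩
  obtain ⟨P, hP, ⟨eP⟩⟩ := D.exists_sylow_N1 hO
  have hON : Cfsg.oddCore ↥D.N1 = ⊥ := by
    refine (Subgroup.map_eq_bot_iff_of_injective _ D.N1.subtype_injective).1 (eq_bot_iff.2 ?_)
    show (Cfsg.pPrimeCore 2 ↥D.N1).map D.N1.subtype ≤ ⊥
    rw [Grp.pPrimeCore_map_eq]
    exact inf_le_left.trans hO.le
  let Z : Subgroup ↥D.N1 := D.zX.subgroupOf D.N1
  haveI : Z.Normal := D.zX_normal.subgroupOf _
  have hZc : Z ≤ center ↥D.N1 := fun x hx => mem_center_iff.2 fun y => Subtype.ext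
    (mem_center_iff.1 (D.zX_center (mem_subgroupOf.1 hx)) (y : X))
  have hZcard : Nat.card Z = 2 := by
    rw [Nat.card_congr (Subgroup.subgroupOfEquivOfLe D.zX_le_N1).toEquiv, D.card_zX]
  have hZP : Z ≤ (P : Subgroup ↥D.N1) := fun x hx => by
    rw [hP]
    exact D.sideX_le (D.zX_le_sideX (mem_subgroupOf.1 hx))
  -- a normal subgroup with more than `⟨z⟩` in common with `S` is everything
  have big : ∀ M : Subgroup X, M.Normal → M ≤ D.N1 → ∀ x ∈ M, x ∈ (S : Subgroup X) → x ∉ D.zX →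
      D.N1 = M := by
    intro M hM hMN x hx hxS hxz
    exact le_antisymm (D.N1_le (p := ⟨x, hxS⟩) (D.mem_side_of_N1 hO (hMN hx)) hx hxz) hMN
  by_cases hsol : Group.IsSolvable ↥D.N1
  · left
    haveI := hsol
    have hC := Fus.centralizer_pCore_le_of_solvable (p := 2) (G := ↥D.N1) hON
    set O := (Cfsg.pCore 2 ↥D.N1).map D.N1.subtype
    haveI : (Cfsg.pCore 2 ↥D.N1).Characteristic := Subgroup.characteristic_iff_map_le.2 fun φ => by
      haveI := Grp.pCore_isNormal (p := 2) (G := ↥D.N1)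
      exact le_sSup ⟨this.map _ φ.surjective, Grp.pCore_isPGroup.map _⟩
    haveI hOn : O.Normal := ConjAct.normal_of_characteristic_of_normal
    obtain ⟨x, hxO, hxz⟩ : ∃ x ∈ O, x ∉ D.zX := by
      by_contra hne
      push Not at hne
      refine D.side_not_le fun y hy => ?_
      have hy1 : (⟨y, D.sideX_le_N1 hy⟩ : ↥D.N1) ∈ centralizer (Cfsg.pCore 2 ↥D.N1 : Set ↥D.N1) :=
        mem_centralizer_iff.2 fun o ho => (mem_center_iff.1 (hZc (mem_subgroupOf.2
          (hne _ ⟨o, ho, rfl⟩))) _).symm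
      exact hne _ ⟨_, hC hy1, rfl⟩
    have hOS : O ≤ (S : Subgroup X) := (Grp.pCore_isPGroup.map _).le_sylow_of_normal S
    have heq := big O hOn (Subgroup.map_subtype_le _) x hxO (hOS hxO) hxz
    have hside : D.N1 = D.sideX := le_antisymm (fun y hy => D.coe_mem_sideX.2
      (D.mem_side_of_N1 hO (p := ⟨y, hOS (heq.le hy)⟩) hy)) D.sideX_le_N1
    exact ⟨hside, D.k_eq_two_of_normal (hside ▸ D.N1_normal)⟩
  right
  let π := QuotientGroup.mk' Z
  have hOQ : Cfsg.oddCore (↥D.N1 ⧸ Z) = ⊥ := Invol.GW.oddCore_quotient_central hON Z hZc hZcard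
  obtain ⟨eY⟩ := Invol.GW.quotient_sylow_dihedral P eP Z hZcard hZP
  have hnsQ : ¬ Group.IsSolvable (↥D.N1 ⧸ Z) := fun h => hsol <| by
    haveI := h
    haveI : Group.IsSolvable Z := Group.isSolvable_of_comm fun a b => Subtype.ext
      (mem_center_iff.1 (hZc b.2) a)
    exact solvable_of_ker_le_range Z.subtype (QuotientGroup.mk' Z) (by rw [QuotientGroup.ker_mk', range_subtype])
  obtain ⟨L, hLn, hLm, hCL⟩ :=
    Invol.GW.exists_socle Invol.GW.Dihedral.gwStatement_holds hOQ hnsQ _ eY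
  haveI := hLn
  haveI hLsimp := Invol.GW.isSimple_of_model hLm
  -- the socle is invariant under automorphisms
  have hLchar : ∀ α : MulAut (↥D.N1 ⧸ Z), ∀ l ∈ L, α l ∈ L := by
    intro α l hl
    set L' := L.map α.toMonoidHom
    haveI : L'.Normal := hLn.map _ α.surjective
    haveI : IsSimpleGroup L' := (L.equivMapOfInjective _ α.injective).symm.isSimpleGroup
    rcases IsSimpleGroup.eq_bot_or_eq_top_of_normal ((L ⊓ L').subgroupOf L') inferInstance with h | h
    · exfalso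
      have hdis : L ⊓ L' = ⊥ := by
        rw [Subgroup.subgroupOf_eq_bot, disjoint_iff, inf_assoc, inf_idem] at h
        exact h
      have hle : L' ≤ centralizer (L : Set (↥D.N1 ⧸ Z)) := fun y hy => mem_centralizer_iff.2
        fun x hx => (Subgroup.commute_of_normal_of_disjoint L L' inferInstance inferInstance
          (disjoint_iff.2 hdis) x y hx hy).eq
      rw [hCL, le_bot_iff] at hle
      exact (Subgroup.nontrivial_iff_ne_bot L').1 inferInstance hle
    · have h2 : L' ≤ L ⊓ L' := Subgroup.subgroupOf_eq_top.1 h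
      exact (h2 (Subgroup.mem_map_of_mem _ hl)).1
  let E : Subgroup ↥D.N1 := L.comap π
  haveI hEn : (E.map D.N1.subtype).Normal := ⟨by
    rintro _ ⟨x, hx, rfl⟩ g
    refine ⟨MulAut.conjNormal g x, ?_, MulAut.conjNormal_apply g x⟩
    exact hLchar (QuotientGroup.congr Z Z (MulAut.conjNormal g) (by
      ext y
      rw [Subgroup.map_equiv_eq_comap_symm, Subgroup.mem_comap, mem_subgroupOf, mem_subgroupOf]
      have h1 : (((MulAut.conjNormal g).symm y : ↥D.N1) : X) = g⁻¹ * y * g :=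
        MulAut.conjNormal_symm_apply g y
      show (((MulAut.conjNormal g).symm y : ↥D.N1) : X) ∈ D.zX ↔ _
      rw [h1]
      refine ⟨fun h => ?_, fun h => by simpa using D.zX_normal.conj_mem _ h g⁻¹⟩
      have := D.zX_normal.conj_mem _ h g
      simpa [mul_assoc] using this)) _ hx⟩
  -- the socle has even order, so it is everything
  have hLtop : L = ⊤ := by
    have hL2 : 2 ∣ Nat.card L := by
      by_contra h
      have : L ≤ ⊥ := hOQ ▸ Grp.le_pPrimeCore hLn
        ((Nat.Prime.coprime_iff_not_dvd Nat.prime_two).2 h).symm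
      exact (Subgroup.nontrivial_iff_ne_bot L).1 inferInstance (le_bot_iff.1 this)
    have hE4 : 2 ^ 2 ∣ Nat.card ↥(E.map D.N1.subtype) := by
      rw [Subgroup.card_map_of_injective D.N1.subtype_injective]
      have hρ := π.subgroupComap_surjective_of_surjective L (QuotientGroup.mk'_surjective Z)
      let ρ : E →* L := π.subgroupComap L
      have hZE : Z.subgroupOf E ≤ ρ.ker := fun x hx => Subtype.ext
        ((QuotientGroup.eq_one_iff _).2 (mem_subgroupOf.1 hx))
      have hk : 2 ∣ Nat.card ρ.ker := by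
        refine dvd_trans ?_ (Subgroup.card_dvd_of_le hZE)
        rw [Nat.card_congr (Subgroup.subgroupOfEquivOfLe (fun x hx => by
          show (QuotientGroup.mk x : ↥D.N1 ⧸ Z) ∈ L
          rw [(QuotientGroup.eq_one_iff x).2 hx]
          exact one_mem L : Z ≤ E)).toEquiv, hZcard]
      rw [ρ.ker.card_eq_card_quotient_mul_card_subgroup,
        Nat.card_congr (QuotientGroup.quotientKerEquivOfSurjective ρ hρ).toEquiv, pow_two]
      exact Nat.mul_dvd_mul hL2 hk
    obtain ⟨T, hT⟩ := Sylow.exists_subgroup_card_pow_prime 2 hE4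
    have hTp : IsPGroup 2 ↥(T.map (E.map D.N1.subtype).subtype) :=
      IsPGroup.of_card (n := 2) (by rw [Subgroup.card_map_of_injective (Subgroup.subtype_injective _), hT])
    obtain ⟨c, hc⟩ := Invol.exists_conj_subset_sylow hTp S
    obtain ⟨x, hx, hxz⟩ : ∃ x ∈ T.map (E.map D.N1.subtype).subtype, x ∉ D.zX := by
      by_contra hne
      push Not at hne
      have := Subgroup.card_le_of_le (hne : _ ≤ D.zX)
      rw [Subgroup.card_map_of_injective (Subgroup.subtype_injective _), hT, D.card_zX] at this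
      norm_num at this
    have hxE : x ∈ E.map D.N1.subtype := Subgroup.map_subtype_le _ hx
    have hxz' : c * x * c⁻¹ ∉ D.zX := fun h => hxz (by
      have := D.zX_normal.conj_mem _ h c⁻¹
      simpa [mul_assoc] using this)
    have heq := big _ hEn (Subgroup.map_subtype_le _) _ (hEn.conj_mem x hxE c) (hc x hx) hxz'
    rw [eq_top_iff]
    intro q _
    obtain ⟨x, rfl⟩ := QuotientGroup.mk'_surjective Z q
    obtain ⟨y, hy, hyx⟩ := heq.le x.2
    rw [show x = y from Subtype.ext hyx.symm]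
    exact hy
  let eL : L ≃* ↥D.N1 ⧸ Z := (MulEquiv.subgroupCongr hLtop).trans Subgroup.topEquiv
  rcases hLm with ⟨F, hF, hFf, hodd, h3, ⟨f⟩⟩ | h7
  · let σ : ↥D.N1 →* Matrix.ProjectiveSpecialLinearGroup (Fin 2) F :=
      (eL.symm.trans f).toMonoidHom.comp π
    have hσ : Function.Surjective σ := (eL.symm.trans f).surjective.comp (QuotientGroup.mk'_surjective Z)
    have hk : σ.ker = Z := by
      ext y
      show (eL.symm.trans f) (QuotientGroup.mk y) = 1 ↔ _
      rw [MulEquiv.map_eq_one_iff, QuotientGroup.eq_one_iff]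
    have hperf : commutator ↥D.N1 = ⊤ := by
      set M := (commutator ↥D.N1).map D.N1.subtype
      haveI hMn : M.Normal := ConjAct.normal_of_characteristic_of_normal
      have hmap : (commutator ↥D.N1).map σ = ⊤ := by
        rw [_root_.commutator_def, Subgroup.map_commutator, Subgroup.map_top_of_surjective σ hσ,
          ← _root_.commutator_def, Invol.GW.psl_commutator_top h3]
      -- some element of `M` differs from the diagonal square root only by an element of `⟨z⟩`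
      let d : ↥D.N1 := ⟨D.e.dd D.e.q, D.sideX_le_N1 (D.coe_mem_sideX.2 (D.e.dd_mem _))⟩
      obtain ⟨c, hc, hcd⟩ : σ d ∈ (commutator ↥D.N1).map σ := hmap ▸ Subgroup.mem_top _
      have hz : c⁻¹ * d ∈ Z := hk ▸ (by rw [MonoidHom.mem_ker, map_mul, map_inv, hcd, inv_mul_cancel])
      have hzX : ((c : X)⁻¹ * (D.e.dd D.e.q : X)) ∈ D.zX := mem_subgroupOf.1 hz
      have hcS : (c : X) ∈ (S : Subgroup X) := by
        have := mul_mem (D.e.dd D.e.q).2 (inv_mem (D.sideX_le (D.zX_le_sideX hzX)))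
        simpa [mul_assoc] using this
      have hcz : (c : X) ∉ D.zX := fun h => by
        rcases D.mem_zX.1 (mul_mem h hzX) with h' | h' <;> rw [mul_inv_cancel_left] at h'
        · exact (D.e.side_central D.e.dd_q_sq).1 (Subtype.ext h')
        · exact (D.e.side_central D.e.dd_q_sq).2 (Subtype.ext h')
      have heq := big M hMn (Subgroup.map_subtype_le _) (c : X) ⟨c, hc, rfl⟩ hcS hcz
      rw [eq_top_iff]
      intro x _
      obtain ⟨y, hy, hyx⟩ := heq.le x.2
      rw [show x = y from Subtype.ext hyx.symm]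
      exact hy
    exact ⟨F, hF, hFf, hodd, h3,
      Invol.GW.iso_SLTwo hperf hodd h3 σ hσ (hk.le.trans hZc) (by rw [hk, hZcard])⟩
  -- the cover of the alternating group of degree seven
  exfalso
  obtain ⟨f⟩ := h7
  let f' : (↥D.N1 ⧸ Z) ≃* alternatingGroup (Fin 7) := eL.symm.trans f
  have hN8 : D.e.N = 8 := by
    have h1 : Nat.card ↥D.N1 = 5040 := by
      rw [Z.card_eq_card_quotient_mul_card_subgroup, Nat.card_congr f'.toEquiv,
        Invol.GW.card_alt_seven, hZcard]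
    have h2 := P.card_eq_multiplicity
    rw [Nat.card_congr eP.toEquiv, Nat.card_eq_fintype_card, h1] at h2
    haveI : NeZero (2 ^ (D.e.k - 1)) := ⟨by positivity⟩
    rw [QuaternionGroup.card, show (5040 : ℕ) = 2 ^ 4 * 315 from rfl,
      Nat.factorization_mul (by norm_num) (by norm_num), Finsupp.add_apply,
      Nat.Prime.factorization_pow Nat.prime_two, Finsupp.single_eq_same,
      Nat.factorization_eq_zero_of_not_dvd (show ¬ 2 ∣ 315 by norm_num), add_zero,
      show 4 * 2 ^ (D.e.k - 1) = 2 ^ 2 * 2 ^ (D.e.k - 1) from rfl, ← pow_add] at h2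
    have h3 := Nat.pow_right_injective le_rfl h2
    have hk : D.e.k = 3 := by have := D.e.hk; omega
    simp [Rel.N, hk]
  let θ : X →* MulAut (↥D.N1 ⧸ Z) := MonoidHom.mk' (fun g => QuotientGroup.congr Z Z (MulAut.conjNormal g) (by
      ext y
      rw [Subgroup.map_equiv_eq_comap_symm, Subgroup.mem_comap, mem_subgroupOf, mem_subgroupOf]
      have h1 : (((MulAut.conjNormal g).symm y : ↥D.N1) : X) = g⁻¹ * y * g :=
        MulAut.conjNormal_symm_apply g y
      show (((MulAut.conjNormal g).symm y : ↥D.N1) : X) ∈ D.zX ↔ _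
      rw [h1]
      refine ⟨fun h => ?_, fun h => by simpa using D.zX_normal.conj_mem _ h g⁻¹⟩
      have := D.zX_normal.conj_mem _ h g
      simpa [mul_assoc] using this))
    fun a b => MulEquiv.ext fun q => QuotientGroup.induction_on q fun s => by
      simp [MulAut.mul_apply]
  let χ : X →* Equiv.Perm (Fin 7) := ((MulEquiv.ofBijective _
    (S2119.result 7 (by norm_num) (by norm_num))).symm.toMonoidHom.comp (MulAut.congr f').toMonoidHom).comp θ
  have hχ : ∀ g, χ g = 1 → θ g = 1 := fun g h => by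
    have h1 := (MulEquiv.ofBijective _ (S2119.result 7 (by norm_num) (by norm_num))).symm.injective
      (a₁ := MulAut.congr f' (θ g)) (a₂ := 1) (h.trans (map_one _).symm)
    exact (MulAut.congr f').injective (h1.trans (map_one _).symm)
  have hsq := Invol.GW.seven_commutator_sq (S.isPGroup'.map χ)
    (Subgroup.mem_map_of_mem χ (D.e.pt 1 0).2) (Subgroup.mem_map_of_mem χ D.e.i.2)
  rw [← map_commutatorElement, ← map_mul] at hsq
  have hval : ⁅(D.e.pt 1 0 : X), (D.e.i : X)⁆ * ⁅(D.e.pt 1 0 : X), (D.e.i : X)⁆ =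
      ((D.e.dd 2 : ↥(S : Subgroup X)) : X) * (D.e.swap.dd 2 : X) := by
    have h : ⁅D.e.pt 1 0, D.e.i⁆ * ⁅D.e.pt 1 0, D.e.i⁆ = D.e.dd 2 * D.e.swap.dd 2 := by
      have hc : ⁅D.e.pt 1 0, D.e.i⁆ = D.e.pt 2 0 := by
        rw [commutatorElement_def, mul_assoc, mul_assoc, ← mul_assoc D.e.i, D.e.pt_inv, D.e.i_pt,
          mul_assoc, mul_inv_cancel, mul_one, D.e.pt_mul, D.e.pt_inj]
        exact ⟨by norm_num, by ring⟩
      rw [hc, D.e.swap_dd, Frame.dd, D.e.pt_mul, D.e.pt_mul, D.e.pt_inj]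
      exact ⟨rfl, by ring⟩
    exact congrArg Subtype.val h
  have hθ := hχ _ hsq
  rw [hval, map_mul] at hθ
  have hdd' : θ (D.e.swap.dd 2 : X) = 1 := MulEquiv.ext fun q => QuotientGroup.induction_on q fun x => by
    show (QuotientGroup.mk (MulAut.conjNormal _ x) : ↥D.N1 ⧸ Z) = QuotientGroup.mk x
    rw [QuotientGroup.eq, mem_subgroupOf]
    have hcz := D.comm_mem hO (inv_mem x.2)
      (D.swap_sideX_le_N2 (D.swap.coe_mem_sideX.2 (D.e.swap.dd_mem 2)))
    simp only [Subgroup.coe_mul, InvMemClass.coe_inv, MulAut.conjNormal_apply]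
    have h3 := inv_mem hcz
    simp only [commutatorElement_def] at h3 ⊢
    group at h3 ⊢
    exact h3
  rw [hdd', mul_one] at hθ
  -- the centre of the alternating group is trivial
  let d2 : ↥D.N1 := ⟨D.e.dd 2, D.sideX_le_N1 (D.coe_mem_sideX.2 (D.e.dd_mem 2))⟩
  have hcen : (QuotientGroup.mk d2 : ↥D.N1 ⧸ Z) ∈ center (↥D.N1 ⧸ Z) := mem_center_iff.2 fun q =>
    QuotientGroup.induction_on q fun x => by
      have h1 : (QuotientGroup.mk (MulAut.conjNormal (D.e.dd 2 : X) x) : ↥D.N1 ⧸ Z) = QuotientGroup.mk x :=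
        DFunLike.congr_fun hθ (QuotientGroup.mk x)
      rw [show MulAut.conjNormal (D.e.dd 2 : X) x = d2 * x * d2⁻¹ from Subtype.ext
        (MulAut.conjNormal_apply _ _)] at h1
      rw [QuotientGroup.mk_mul, QuotientGroup.mk_mul, QuotientGroup.mk_inv] at h1
      exact (mul_inv_eq_iff_eq_mul.1 h1).symm
  haveI : IsSimpleGroup (↥D.N1 ⧸ Z) := eL.symm.isSimpleGroup
  rcases IsSimpleGroup.eq_bot_or_eq_top_of_normal (center (↥D.N1 ⧸ Z)) inferInstance with h | h
  · rw [h, Subgroup.mem_bot, QuotientGroup.eq_one_iff] at hcen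
    have h2 : (2 : ZMod D.e.N) = 0 ∨ (2 : ZMod D.e.N) = D.e.m := by
      rcases D.mem_zX.1 (mem_subgroupOf.1 hcen) with h | h
      · exact Or.inl (D.e.dd_inj ((Subtype.ext h : D.e.dd 2 = 1).trans D.e.dd_zero.symm))
      · exact Or.inr (D.e.dd_inj ((Subtype.ext h : D.e.dd 2 = D.e.z).trans D.e.dd_m.symm))
    have h4 : (2 : ZMod D.e.N) + 2 = 0 := D.e.two_eq_zero_iff.2 h2
    have h5 : ((4 : ℕ) : ZMod D.e.N) = 0 := by
      push_cast
      linear_combination h4
    rw [ZMod.natCast_eq_zero_iff, hN8] at h5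
    norm_num at h5
  · exact hnsQ (Group.isSolvable_of_comm fun a b => by
      exact (mem_center_iff.1 (h ▸ Subgroup.mem_top b) a))

end Cfg

end Cfsg.Agent.Grp.GTwoSylow
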