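import Cfsg.Agent.Lib.Grp.GTwoSylow.Frame

/-!
# The two quaternion sides of a `G₂(q)` Sylow 2-subgroup

In `(C_N × C_N) ⋊ ⟨i, s⟩` the diagonal together with the coset `(a, a + m) · i s` is a normal
generalised quaternion subgroup; so is the same subgroup for the frame `(x, y⁻¹, i, i s)`, and the
two commute elementwise and meet in `⟨z⟩`.
-/

set_option autoImplicit false

namespace Cfsg.Agent.Grp.GTwoSylow.Frame

open Rel

variable {S : Type*} [Group S] (e : Frame S)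

/-- The frame with the two sides exchanged. -/
@[reducible] def swap : Frame S where
  k := e.k
  hk := e.hk
  x := e.x
  y := e.y⁻¹
  i := e.i
  s := e.i * e.s
  xN := e.xN
  yN := by rw [inv_pow, e.yN, inv_one]
  xy := (Commute.inv_right (show Commute e.x e.y from e.xy)).eq
  ii := e.ii
  ss := by rw [mul_assoc, e.si', e.ii', e.ss]
  si := by rw [mul_assoc, e.si]
  ix := e.ix
  iy := by
    rw [inv_inv]
    have h := e.iy
    calc e.i * e.y⁻¹ = (e.y * e.i)⁻¹ := by rw [mul_inv_rev, inv_eq_of_mul_eq_one_left e.ii]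
      _ = (e.i * e.y⁻¹)⁻¹⁻¹ := by
        have h1 : e.y * e.i = e.i * e.y⁻¹ := by
          calc e.y * e.i = e.i * (e.i * (e.y * e.i)) := by rw [e.ii']
            _ = e.i * ((e.i * e.y) * e.i) := by rw [mul_assoc e.i e.y]
            _ = e.i * e.y⁻¹ := by rw [h, mul_assoc e.y⁻¹, e.ii, mul_one]
        rw [inv_inv, ← h1, mul_inv_rev, inv_eq_of_mul_eq_one_left e.ii]
        calc e.i * e.y⁻¹ = e.y * e.i := h1.symm
          _ = e.y * e.i := rfl
      _ = e.y * e.i := by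
        rw [inv_inv]
        calc e.i * e.y⁻¹ = e.i * ((e.i * e.y) * e.i) := by rw [h, mul_assoc e.y⁻¹, e.ii, mul_one]
          _ = e.y * e.i := by rw [mul_assoc e.i e.y, e.ii']
  sx := by
    rw [mul_assoc, e.sx, ← mul_assoc, e.iy, mul_assoc]
  sy := by
    have h1 : e.s * e.y⁻¹ = e.x⁻¹ * e.s :=
      (SemiconjBy.inv_right (show SemiconjBy e.s e.y e.x from e.sy)).eq
    have h2 : e.i * e.x⁻¹ = e.x * e.i := by
      have h := (SemiconjBy.inv_right (show SemiconjBy e.i e.x e.x⁻¹ from e.ix)).eq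
      rwa [inv_inv] at h
    rw [mul_assoc, h1, ← mul_assoc, h2, mul_assoc]
  indep := fun a b h => by
    have hy : (e.y⁻¹) ^ b = e.y ^ (b * (2 ^ e.k - 1)) := by
      rw [pow_mul', show e.y ^ (2 ^ e.k - 1) = e.y⁻¹ from eq_inv_of_mul_eq_one_left (by
        rw [← pow_succ, Nat.sub_add_cancel Nat.one_le_two_pow, e.yN])]
    rw [hy] at h
    obtain ⟨h1, h2⟩ := e.indep _ _ h
    refine ⟨h1, ((Nat.coprime_self_sub_right Nat.one_le_two_pow).2 ?_).dvd_of_dvd_mul_right h2⟩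
    exact Nat.coprime_one_right _
  card := e.card

theorem swap_k : (e.swap).k = e.k := rfl

theorem swap_pt (a b : ZMod e.N) : e.swap.pt a b = e.pt a (-b) := by
  show e.x ^ a.val * (e.y⁻¹) ^ b.val = e.x ^ a.val * e.y ^ (-b).val
  rw [inv_pow, e.pow_val_neg e.yN]

theorem neg_m : -e.m = e.m := neg_eq_of_add_eq_zero_left e.m_add_m

theorem swap_m : (e.swap).m = e.m := rfl

theorem swap_z : (e.swap).z = e.z := by
  show e.swap.pt e.m e.m = e.pt e.m e.m
  rw [swap_pt, neg_m]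

theorem swap_t : (e.swap).t = e.t := by
  show e.swap.pt e.m 0 = e.pt e.m 0
  rw [swap_pt, neg_zero]

theorem swap_swap_pt (a b : ZMod e.N) : e.swap.swap.pt a b = e.pt a b := by
  show e.swap.swap.pt a b = _
  rw [swap_pt e.swap, swap_pt, neg_neg]

/-- A quarter of the exponent. -/
def q : ZMod e.N := ((2 ^ (e.k - 2) : ℕ) : ZMod e.N)

theorem q_add_q : e.q + e.q = e.m := by
  rw [q, Rel.m, ← Nat.cast_add, ← two_mul, ← pow_succ']
  congr 2
  have := e.hk; omega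

theorem q_ne_neg : e.q ≠ -e.q := fun h => e.m_ne_zero (by
  rw [← e.q_add_q]; nth_rewrite 1 [h]; exact neg_add_cancel _)

theorem neg_q : -e.q = e.q + e.m := by
  linear_combination (-1 : ZMod e.N) * e.q_add_q - e.m_add_m

/-- The diagonal elements. -/
def dd (c : ZMod e.N) : S := e.pt c c

/-- The elements of the side outside the diagonal. -/
def ww (a : ZMod e.N) : S := e.pt a (a + e.m) * (e.i * e.s)

theorem is_pt (a b : ZMod e.N) : e.i * e.s * e.pt a b = e.pt (-b) (-a) * (e.i * e.s) := by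
  rw [mul_assoc, e.s_pt, e.i_pt']

theorem is_pt' (a b : ZMod e.N) (g : S) :
    e.i * e.s * (e.pt a b * g) = e.pt (-b) (-a) * (e.i * e.s * g) := by
  rw [← mul_assoc, is_pt, mul_assoc]

theorem is_is : e.i * e.s * (e.i * e.s) = 1 := by rw [mul_assoc, e.si', e.ii', e.ss]

theorem dd_mul_dd (c d : ZMod e.N) : e.dd c * e.dd d = e.dd (c + d) := e.pt_mul ..

theorem dd_zero : e.dd 0 = 1 := e.pt_zero

theorem dd_inv (c : ZMod e.N) : (e.dd c)⁻¹ = e.dd (-c) := e.pt_inv ..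

theorem dd_inj {c d : ZMod e.N} (h : e.dd c = e.dd d) : c = d := (e.pt_inj.1 h).1

theorem dd_m : e.dd e.m = e.z := rfl

theorem dd_mul_ww (c a : ZMod e.N) : e.dd c * e.ww a = e.ww (c + a) := by
  rw [dd, ww, ww, e.pt_mul', add_assoc]

theorem ww_mul_dd (a c : ZMod e.N) : e.ww a * e.dd c = e.ww (a - c) := by
  rw [dd, ww, ww, mul_assoc, e.is_pt, e.pt_mul']
  congr 2 <;> ring

theorem ww_mul_ww (a b : ZMod e.N) : e.ww a * e.ww b = e.dd (a - b + e.m) := by
  rw [dd, ww, ww, mul_assoc, e.is_pt', e.is_is, mul_one, e.pt_mul, e.pt_inj]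
  exact ⟨by linear_combination (-1 : ZMod e.N) * e.m_add_m, by ring⟩

theorem ww_inv (a : ZMod e.N) : (e.ww a)⁻¹ = e.ww (a + e.m) := by
  refine inv_eq_of_mul_eq_one_right ?_
  rw [ww_mul_ww, ← dd_zero]
  congr 1
  ring

theorem ww_sq (a : ZMod e.N) : e.ww a * e.ww a = e.z := by
  rw [ww_mul_ww, sub_self, zero_add, dd_m]

theorem swap_dd (c : ZMod e.N) : e.swap.dd c = e.pt c (-c) := e.swap_pt c c

theorem swap_ww (a : ZMod e.N) : e.swap.ww a = e.pt a (e.m - a) * e.s := by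
  show e.swap.pt a (a + e.m) * (e.i * (e.i * e.s)) = _
  rw [e.swap_pt, e.ii']
  congr 2
  linear_combination (-1 : ZMod e.N) * e.m_add_m

theorem cls_dd (c : ZMod e.N) : e.cls (e.dd c) = (bit false, bit false) := e.cls_pt c c

theorem cls_ww (a : ZMod e.N) : e.cls (e.ww a) = (bit true, bit true) := e.cls_is ..

theorem cls_swap_dd (c : ZMod e.N) : e.cls (e.swap.dd c) = (bit false, bit false) := by
  rw [swap_dd]; exact e.cls_pt ..

theorem cls_swap_ww (a : ZMod e.N) : e.cls (e.swap.ww a) = (bit false, bit true) := by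
  rw [swap_ww]; exact e.cls_s ..

/-- The quaternion side. -/
def side : Subgroup S where
  carrier := {g | (∃ c, g = e.dd c) ∨ ∃ a, g = e.ww a}
  one_mem' := Or.inl ⟨0, e.dd_zero.symm⟩
  mul_mem' := by
    rintro g h (⟨c, rfl⟩ | ⟨a, rfl⟩) (⟨d, rfl⟩ | ⟨b, rfl⟩)
    exacts [Or.inl ⟨_, e.dd_mul_dd c d⟩, Or.inr ⟨_, e.dd_mul_ww c b⟩, Or.inr ⟨_, e.ww_mul_dd a d⟩,
      Or.inl ⟨_, e.ww_mul_ww a b⟩]
  inv_mem' := by
    rintro g (⟨c, rfl⟩ | ⟨a, rfl⟩)
    exacts [Or.inl ⟨_, e.dd_inv c⟩, Or.inr ⟨_, e.ww_inv a⟩]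

theorem mem_side {g : S} : g ∈ e.side ↔ (∃ c, g = e.dd c) ∨ ∃ a, g = e.ww a := Iff.rfl

theorem dd_mem (c : ZMod e.N) : e.dd c ∈ e.side := Or.inl ⟨c, rfl⟩

theorem ww_mem (a : ZMod e.N) : e.ww a ∈ e.side := Or.inr ⟨a, rfl⟩

theorem z_mem_side : e.z ∈ e.side := e.dd_mem e.m

theorem pt_mem_side {a b : ZMod e.N} (h : e.pt a b ∈ e.side) : a = b := by
  rcases h with ⟨c, hc⟩ | ⟨c, hc⟩
  · obtain ⟨rfl, rfl⟩ := e.pt_inj.1 hc; rfl
  · exact absurd hc (e.pt_ne_is _ _ _ _)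

/-- The side is generated by its elements outside the diagonal. -/
theorem side_le {H : Subgroup S} (h : ∀ a, e.ww a ∈ H) : e.side ≤ H := by
  rintro g (⟨c, rfl⟩ | ⟨a, rfl⟩)
  · have h1 := H.mul_mem (h (c + e.m)) (h 0)
    rwa [ww_mul_ww, sub_zero, add_assoc, e.m_add_m, add_zero] at h1
  · exact h a

theorem pt_conj_ww (p r a : ZMod e.N) :
    e.pt p r * e.ww a * (e.pt p r)⁻¹ = e.ww (a + p + r) := by
  rw [ww, ww, e.pt_inv, mul_assoc, mul_assoc, e.is_pt, e.pt_mul', e.pt_mul']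
  congr 2 <;> ring

theorem i_inv : e.i⁻¹ = e.i := inv_eq_of_mul_eq_one_left e.ii

theorem s_inv : e.s⁻¹ = e.s := inv_eq_of_mul_eq_one_left e.ss

theorem i_conj_pt (a b : ZMod e.N) : e.i * e.pt a b * e.i⁻¹ = e.pt (-a) (-b) := by
  rw [i_inv, e.i_pt, mul_assoc, e.ii, mul_one]

theorem s_conj_pt (a b : ZMod e.N) : e.s * e.pt a b * e.s⁻¹ = e.pt b a := by
  rw [s_inv, e.s_pt, mul_assoc, e.ss, mul_one]

theorem i_conj_ww (a : ZMod e.N) : e.i * e.ww a * e.i⁻¹ = e.ww (-a) := by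
  rw [i_inv, ww, ww, e.i_pt', e.ii', mul_assoc, e.si, neg_add, e.neg_m]

theorem s_conj_ww (a : ZMod e.N) : e.s * e.ww a * e.s⁻¹ = e.ww (a + e.m) := by
  rw [s_inv, ww, ww, e.s_pt', e.si', e.ss, mul_one, mul_assoc, add_assoc a, e.m_add_m, add_zero]

theorem side_conj {x : S} (hx : x ∈ e.side) (g : S) : g * x * g⁻¹ ∈ e.side := by
  have hpt : ∀ p r, ∀ x ∈ e.side, e.pt p r * x * (e.pt p r)⁻¹ ∈ e.side := by
    rintro p r x (⟨c, rfl⟩ | ⟨a, rfl⟩)
    · rw [dd, e.conj_pt]; exact e.dd_mem c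
    · rw [pt_conj_ww]; exact e.ww_mem _
  have hi : ∀ x ∈ e.side, e.i * x * e.i⁻¹ ∈ e.side := by
    rintro x (⟨c, rfl⟩ | ⟨a, rfl⟩)
    · rw [dd, i_conj_pt]; exact e.dd_mem _
    · rw [i_conj_ww]; exact e.ww_mem _
  have hs : ∀ x ∈ e.side, e.s * x * e.s⁻¹ ∈ e.side := by
    rintro x (⟨c, rfl⟩ | ⟨a, rfl⟩)
    · rw [dd, s_conj_pt]; exact e.dd_mem _
    · rw [s_conj_ww]; exact e.ww_mem _
  obtain ⟨a, b, rfl | rfl | rfl | rfl⟩ := e.cases4 g
  · exact hpt a b x hx
  · rw [show e.pt a b * e.i * x * (e.pt a b * e.i)⁻¹ =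
      e.pt a b * (e.i * x * e.i⁻¹) * (e.pt a b)⁻¹ by group]
    exact hpt a b _ (hi x hx)
  · rw [show e.pt a b * e.s * x * (e.pt a b * e.s)⁻¹ =
      e.pt a b * (e.s * x * e.s⁻¹) * (e.pt a b)⁻¹ by group]
    exact hpt a b _ (hs x hx)
  · rw [show e.pt a b * (e.i * e.s) * x * (e.pt a b * (e.i * e.s))⁻¹ =
      e.pt a b * (e.i * (e.s * x * e.s⁻¹) * e.i⁻¹) * (e.pt a b)⁻¹ by group]
    exact hpt a b _ (hi _ (hs x hx))

theorem side_commute {g h : S} (hg : g ∈ e.side) (hh : h ∈ e.swap.side) : g * h = h * g := by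
  rcases hg with ⟨c, rfl⟩ | ⟨a, rfl⟩ <;> rcases hh with ⟨d, rfl⟩ | ⟨b, rfl⟩
  · rw [swap_dd, dd, e.pt_mul, e.pt_mul, add_comm c d, add_comm c]
  · rw [swap_ww, dd, e.pt_mul', mul_assoc, e.s_pt, e.pt_mul', add_comm c b, add_comm c]
  · rw [swap_dd, ww, mul_assoc, e.is_pt, e.pt_mul', e.pt_mul', neg_neg, add_comm a d,
      add_comm (a + e.m)]
  · rw [swap_ww, ww, mul_assoc (e.pt a _), e.is_pt', e.pt_mul', mul_assoc (e.pt b _), e.s_pt',
      e.pt_mul']
    congr 1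
    · rw [e.pt_inj]
      exact ⟨by linear_combination (-1 : ZMod e.N) * e.m_add_m, by ring⟩
    · rw [mul_assoc, e.ss, e.si', e.ss]

theorem side_inter {g : S} (hg : g ∈ e.side) (hh : g ∈ e.swap.side) : g = 1 ∨ g = e.z := by
  rcases hg with ⟨c, rfl⟩ | ⟨a, rfl⟩ <;> rcases hh with ⟨d, hd⟩ | ⟨b, hb⟩
  · rw [swap_dd, dd, e.pt_inj] at hd
    have h2 : c + c = 0 := by linear_combination hd.1 + hd.2
    rcases e.two_eq_zero_iff.1 h2 with rfl | rfl
    · exact Or.inl e.dd_zero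
    · exact Or.inr rfl
  · have := congrArg e.cls hb
    rw [cls_dd, cls_swap_ww] at this
    exact absurd this (by decide)
  · have := congrArg e.cls hd
    rw [cls_ww, cls_swap_dd] at this
    exact absurd this (by decide)
  · have := congrArg e.cls hb
    rw [cls_ww, cls_swap_ww] at this
    exact absurd this (by decide)

/-- The side as a generalised quaternion group. -/
theorem nonempty_side_quat : Nonempty (↥e.side ≃* QuaternionGroup (2 ^ (e.k - 1))) := by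
  haveI : NeZero (2 ^ (e.k - 1)) := ⟨by positivity⟩
  have hN : 2 * 2 ^ (e.k - 1) = e.N := by
    rw [← pow_succ', Rel.N]; congr 1; have := e.hk; omega
  let φ : ZMod (2 * 2 ^ (e.k - 1)) →+* ZMod e.N := ZMod.castHom (dvd_of_eq hN.symm) _
  have hφ : Function.Bijective φ := by
    refine (Fintype.bijective_iff_injective_and_card _).2 ⟨?_, ?_⟩
    · intro i j h
      have hi : ∀ u, ((φ u).val) = u.val := fun u => by
        show ((ZMod.cast u : ZMod e.N)).val = u.val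
        rw [ZMod.val_cast_eq_val_of_lt]
        exact hN ▸ u.val_lt
      exact ZMod.val_injective _ (by rw [← hi i, ← hi j, h])
    · rw [ZMod.card, ZMod.card, hN]
  have hm : φ ((2 ^ (e.k - 1) : ℕ)) = e.m := map_natCast φ _
  let f : QuaternionGroup (2 ^ (e.k - 1)) →* ↥e.side :=
    MonoidHom.mk' (fun g => match g with
      | QuaternionGroup.a j => ⟨e.dd (φ j), e.dd_mem _⟩
      | QuaternionGroup.xa j => ⟨e.ww (-φ j), e.ww_mem _⟩) fun g h => Subtype.ext <| by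
    rcases g with i | i <;> rcases h with j | j
    · show e.dd (φ (i + j)) = e.dd (φ i) * e.dd (φ j)
      rw [dd_mul_dd, map_add]
    · show e.ww (-φ (j - i)) = e.dd (φ i) * e.ww (-φ j)
      rw [dd_mul_ww, map_sub]
      congr 1; ring
    · show e.ww (-φ (i + j)) = e.ww (-φ i) * e.dd (φ j)
      rw [ww_mul_dd, map_add]
      congr 1; ring
    · show e.dd (φ ((2 ^ (e.k - 1) : ℕ) + j - i)) = e.ww (-φ i) * e.ww (-φ j)
      rw [ww_mul_ww, map_sub, map_add, hm]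
      congr 1; ring
  refine ⟨(MulEquiv.ofBijective f ⟨?_, ?_⟩).symm⟩
  · rintro (i | i) (j | j) h <;> have h' := congrArg (fun v : ↥e.side => (v : S)) h
    · exact congrArg _ (hφ.1 (e.dd_inj h'))
    · have := congrArg e.cls (show e.dd (φ i) = e.ww (-φ j) from h')
      rw [cls_dd, cls_ww] at this
      exact absurd this (by decide)
    · have := congrArg e.cls (show e.ww (-φ i) = e.dd (φ j) from h')
      rw [cls_dd, cls_ww] at this
      exact absurd this (by decide)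
    · have h2 : e.ww (-φ i) = e.ww (-φ j) := h'
      rw [ww, ww, mul_left_inj, e.pt_inj] at h2
      exact congrArg _ (hφ.1 (neg_inj.1 h2.1))
  · rintro ⟨g, ⟨c, rfl⟩ | ⟨a, rfl⟩⟩
    · obtain ⟨j, rfl⟩ := hφ.2 c
      exact ⟨QuaternionGroup.a j, rfl⟩
    · obtain ⟨j, hj⟩ := hφ.2 (-a)
      exact ⟨QuaternionGroup.xa j, Subtype.ext (by show e.ww (-φ j) = e.ww a; rw [hj, neg_neg])⟩

theorem card_side : Nat.card ↥e.side = 2 * e.N := by
  obtain ⟨f⟩ := e.nonempty_side_quat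
  haveI : NeZero (2 ^ (e.k - 1)) := ⟨by positivity⟩
  rw [Nat.card_congr f.toEquiv, Nat.card_eq_fintype_card, QuaternionGroup.card, Rel.N]
  rw [show 4 * 2 ^ (e.k - 1) = 2 * (2 * 2 ^ (e.k - 1)) by ring, ← pow_succ']
  congr 2
  have := e.hk; omega

theorem card_swap_side : Nat.card ↥e.swap.side = 2 * e.N := e.swap.card_side

/-- The square roots of `z`. -/
theorem sq_eq_z {g : S} (h : g * g = e.z) : g ∈ e.side ∨ g ∈ e.swap.side := by
  obtain ⟨a, b, rfl | rfl | rfl | rfl⟩ := e.cases4 g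
  · rw [e.pt_mul, Rel.z, e.pt_inj] at h
    have hd : (b - a) + (b - a) = 0 := by linear_combination h.2 - h.1
    rcases e.two_eq_zero_iff.1 hd with hd | hd
    · left
      rw [sub_eq_zero] at hd
      subst hd
      exact e.dd_mem _
    · right
      refine Or.inl ⟨a, ?_⟩
      rw [swap_dd, e.pt_inj]
      exact ⟨rfl, by linear_combination hd + h.1 + e.m_add_m⟩
  · exfalso
    rw [mul_assoc, e.i_pt', e.ii, mul_one, e.pt_mul, add_neg_cancel, add_neg_cancel, e.pt_zero] at h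
    exact e.z_ne_one h.symm
  · right
    rw [mul_assoc, e.s_pt', e.ss, mul_one, e.pt_mul, Rel.z, e.pt_inj] at h
    refine Or.inr ⟨a, ?_⟩
    rw [swap_ww, mul_left_inj, e.pt_inj]
    exact ⟨rfl, by linear_combination h.1⟩
  · left
    rw [mul_assoc, e.is_pt', e.is_is, mul_one, e.pt_mul, Rel.z, e.pt_inj] at h
    refine Or.inr ⟨a, ?_⟩
    rw [ww, mul_left_inj, e.pt_inj]
    exact ⟨rfl, by linear_combination (-1 : ZMod e.N) * h.1 - e.m_add_m⟩

/-- The square roots of `z` in the side. -/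
theorem side_sq_eq_z {g : S} (hg : g ∈ e.side) (h : g * g = e.z) :
    g = e.dd e.q ∨ g = e.dd (-e.q) ∨ ∃ a, g = e.ww a := by
  rcases hg with ⟨c, rfl⟩ | ⟨a, rfl⟩
  · rw [dd_mul_dd, ← dd_m] at h
    have hc := e.dd_inj h
    have h2 : (c - e.q) + (c - e.q) = 0 := by linear_combination hc - e.q_add_q
    rcases e.two_eq_zero_iff.1 h2 with h2 | h2
    · exact Or.inl (by rw [sub_eq_zero.1 h2])
    · exact Or.inr (Or.inl (congrArg _ (by linear_combination h2 + e.q_add_q + e.m_add_m)))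
  · exact Or.inr (Or.inr ⟨a, rfl⟩)

theorem ww_conj_ww_zero (a : ZMod e.N) : e.pt (-a) 0 * e.ww a * (e.pt (-a) 0)⁻¹ = e.ww 0 := by
  rw [pt_conj_ww]; congr 1; ring

theorem t_eq : e.t = e.dd e.q * e.swap.dd e.q := by
  rw [swap_dd, dd, e.pt_mul, e.q_add_q, add_neg_cancel, Rel.t]

theorem s_eq : e.s = e.dd e.q * e.swap.ww (-e.q) := by
  rw [swap_ww, dd, e.pt_mul', add_neg_cancel, sub_neg_eq_add,
    show e.q + (e.m + e.q) = 0 by linear_combination e.q_add_q + e.m_add_m, e.pt_zero, one_mul]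

theorem cases_center {g : S} (h : ∀ x : S, g * x = x * g) : g = 1 ∨ g = e.z := by
  obtain ⟨a, b, rfl | rfl | rfl | rfl⟩ := e.cases4 g
  · have h1 := h e.i
    have h2 := h e.s
    rw [e.i_pt, mul_left_inj, e.pt_inj] at h1
    rw [e.s_pt, mul_left_inj, e.pt_inj] at h2
    obtain rfl := h2.1
    have h3 : a + a = 0 := by linear_combination h1.1
    rcases e.two_eq_zero_iff.1 h3 with rfl | rfl
    exacts [Or.inl e.pt_zero, Or.inr rfl]
  · exfalso
    have h1 := h (e.pt 1 0)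
    rw [mul_assoc, e.i_pt, e.pt_mul', e.pt_mul', mul_left_inj, e.pt_inj] at h1
    have h3 : (1 : ZMod e.N) + 1 = 0 := by linear_combination -h1.1
    rcases e.two_eq_zero_iff.1 h3 with h4 | h4 <;> have h5 := congrArg e.par h4
    · rw [map_one, map_zero] at h5; exact one_ne_zero h5
    · rw [map_one, e.par_m] at h5; exact one_ne_zero h5
  · exfalso
    have h1 := h (e.pt 1 0)
    rw [mul_assoc, e.s_pt, e.pt_mul', e.pt_mul', mul_left_inj, e.pt_inj] at h1
    haveI : Fact (1 < e.N) := ⟨Nat.one_lt_pow (by have := e.hk; omega) (by norm_num)⟩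
    exact one_ne_zero (α := ZMod e.N) (by linear_combination (-1 : ZMod e.N) * h1.1)
  · exfalso
    have h1 := h (e.pt 1 0)
    rw [mul_assoc, e.is_pt, e.pt_mul', e.pt_mul', mul_left_inj, e.pt_inj] at h1
    haveI : Fact (1 < e.N) := ⟨Nat.one_lt_pow (by have := e.hk; omega) (by norm_num)⟩
    exact one_ne_zero (α := ZMod e.N) (by linear_combination (-1 : ZMod e.N) * h1.1)

end Cfsg.Agent.Grp.GTwoSylow.Frame
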