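import Cfsg.Agent.Lib.Grp.GTwoCent.Normal
import Cfsg.Agent.Lib.Block.SharplySolvable
import Cfsg.Agent.Lib.Transfer.Tate
import Cfsg.Agent.S0106

/-!
# The sides whose normal closure is solvable
-/

set_option autoImplicit false

open scoped commutatorElement

namespace Cfsg.Agent.Grp.GTwoSylow

open Subgroup Rel Frame

namespace Frame

variable {T : Type*} [Group T] (e : Frame T)

theorem q_eq_one (hk : e.k = 2) : e.q = 1 := by rw [q, hk]; simp

theorem eq_pow_one (c : ZMod e.N) : (e.dd 1) ^ c.val = e.dd c := by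
  rw [dd_pow, ZMod.natCast_zmod_val, mul_one]

theorem ww_split (a : ZMod e.N) : e.ww a = e.dd a * e.ww 0 := by
  rw [dd_mul_ww, add_zero]

theorem ww_ne_dd (a c : ZMod e.N) : e.ww a ≠ e.dd c := fun h => by
  have := congrArg e.cls h
  rw [cls_ww, cls_dd] at this
  exact absurd this (by decide)

theorem ww_inj {a b : ZMod e.N} (h : e.ww a = e.ww b) : a = b := by
  rw [ww, ww, mul_left_inj, e.pt_inj] at h
  exact h.1

theorem pt_conj_dd (p r c : ZMod e.N) : e.pt p r * e.dd c * (e.pt p r)⁻¹ = e.dd c :=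
  e.conj_pt p r c c

theorem side_conj_dd_q {g : T} (hg : g ∈ e.side) :
    g * e.dd e.q * g⁻¹ = e.dd e.q ∨ g * e.dd e.q * g⁻¹ = e.dd (-e.q) := by
  rcases hg with ⟨c, rfl⟩ | ⟨a, rfl⟩
  · exact Or.inl (e.pt_conj_dd c c e.q)
  · refine Or.inr ?_
    rw [e.ww_inv, ww_mul_dd, ww_mul_ww]
    congr 1
    linear_combination (0 : ZMod e.N)

end Frame

namespace Cfg

universe u

variable {X : Type u} [Group X] [Finite X] {S : Sylow 2 X} (D : Cfg S)

theorem side_le_commutator : D.sideX ≤ commutator X := by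
  have hdiff : ∀ a b : ZMod D.e.N, ((D.e.ww a : X))⁻¹ * (D.e.ww b : X) ∈ commutator X := by
    intro a b
    obtain ⟨g, hg⟩ := isConj_iff.1 ((D.side_conj_dd (D.e.ww_mem a) (D.e.ww_sq a)).trans
      (D.side_conj_dd (D.e.ww_mem b) (D.e.ww_sq b)).symm)
    rw [← hg, show (D.e.ww a : X)⁻¹ * (g * D.e.ww a * g⁻¹) = ⁅(D.e.ww a : X)⁻¹, g⁆ by
      rw [commutatorElement_def]; group]
    exact Subgroup.commutator_mem_commutator (mem_top _) (mem_top _)
  have hdd : ∀ c, (D.e.dd c : X) ∈ commutator X := by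
    intro c
    have h : (D.e.ww (c + 0))⁻¹ * D.e.ww 0 = D.e.dd c := by
      rw [D.e.ww_inv, D.e.ww_mul_ww]
      congr 1
      linear_combination D.e.m_add_m
    rw [← h, Subgroup.coe_mul, InvMemClass.coe_inv]
    exact hdiff _ _
  rintro _ ⟨p, ⟨c, rfl⟩ | ⟨a, rfl⟩, rfl⟩
  · exact hdd c
  · obtain ⟨g, hg⟩ := isConj_iff.1 (D.side_conj_dd (D.e.ww_mem a) (D.e.ww_sq a))
    have h := mul_mem (Subgroup.commutator_mem_commutator (mem_top (D.e.ww a : X)) (mem_top g))
      (hdd D.e.q)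
    rw [← hg, commutatorElement_def] at h
    have h2 : (D.e.ww a : X) * g * (D.e.ww a : X)⁻¹ * g⁻¹ * (g * (D.e.ww a : X) * g⁻¹) =
        (D.e.ww a : X) * g * g⁻¹ := by group
    rw [h2, mul_inv_cancel_right] at h
    exact h

theorem sup_zX_N1 : D.zX ≤ D.N2 := by
  rw [← D.swap_zX]; exact D.swap.zX_le_N1

variable (hO : Cfsg.pPrimeCore 2 X = ⊥)
include hO

theorem perfect_N1 {F : Type} [Field F] [Fintype F] (h3 : 3 < Fintype.card F)
    (e : ↥D.N1 ≃* Matrix.SpecialLinearGroup (Fin 2) F) : commutator ↥D.N1 = ⊤ := by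
  refine Subgroup.map_injective (f := e.toMonoidHom) e.injective ?_
  rw [_root_.commutator_def, Subgroup.map_commutator, Subgroup.map_top_of_surjective _ e.surjective,
    ← _root_.commutator_def, Invol.GW.SLTwo_perfect h3]

theorem comm_of_SL {F : Type} [Field F] [Fintype F] (h3 : 3 < Fintype.card F)
    (e : ↥D.N1 ≃* Matrix.SpecialLinearGroup (Fin 2) F) {a b : X} (ha : a ∈ D.N1) (hb : b ∈ D.N2) :
    b * a = a * b := by
  have h := Invol.GW.eq_id_of_central (D.perfect_N1 hO h3 e)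
    (MulAut.conjNormal b : MulAut ↥D.N1).toMonoidHom (fun y => mem_center_iff.2 fun w => Subtype.ext ?_)
    ⟨a, ha⟩
  · have h1 := congrArg Subtype.val h
    rw [MulEquiv.coe_toMonoidHom, MulAut.conjNormal_apply] at h1
    exact mul_inv_eq_iff_eq_mul.1 h1
  · refine mem_center_iff.1 (D.zX_center ?_) (w : X)
    show (y : X)⁻¹ * ((MulAut.conjNormal b y : ↥D.N1) : X) ∈ D.zX
    rw [MulAut.conjNormal_apply]
    have := D.comm_mem hO (inv_mem y.2) hb
    rwa [commutatorElement_def, inv_inv, show (y : X)⁻¹ * b * y * b⁻¹ = (y : X)⁻¹ * (b * y * b⁻¹) by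
      group] at this

/-- The two normal closures commute. -/
theorem comm_eq {a b : X} (ha : a ∈ D.N1) (hb : b ∈ D.N2) : a * b = b * a := by
  rcases D.dichotomy hO with ⟨h1, -⟩ | ⟨F, hF, hFf, -, h3, ⟨e⟩⟩
  · rcases D.swap.dichotomy hO with ⟨h2, -⟩ | ⟨F, hF, hFf, -, h3, ⟨e⟩⟩
    · obtain ⟨p, hp, rfl⟩ := h1 ▸ ha
      obtain ⟨r, hr, rfl⟩ := (h2 ▸ (D.N2_eq ▸ hb) : b ∈ D.swap.sideX)
      exact congrArg Subtype.val (D.e.side_commute hp hr)
    · refine D.swap.comm_of_SL hO h3 e hb ?_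
      have : D.swap.N2 = D.N1 := by
        show normalClosure (D.swap.swap.sideX : Set X) = normalClosure (D.sideX : Set X)
        rw [show D.swap.swap.sideX = D.sideX from congrArg (Subgroup.map _) D.e.swap_swap_side]
      rw [this]; exact ha
  · exact (D.comm_of_SL hO h3 e ha hb).symm

theorem swap_N2 : D.swap.N2 = D.N1 := by
  show normalClosure (D.swap.swap.sideX : Set X) = normalClosure (D.sideX : Set X)
  rw [show D.swap.swap.sideX = D.sideX from congrArg (Subgroup.map _) D.e.swap_swap_side]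

theorem N1_le_cent : D.N1 ≤ centralizer (D.N2 : Set X) := fun _ ha =>
  mem_centralizer_iff.2 fun _ hb => (D.comm_eq hO ha hb).symm

theorem mem_side_of_cent {p : ↥(S : Subgroup X)} (hp : (p : X) ∈ centralizer (D.N2 : Set X)) :
    p ∈ D.e.side := by
  have h : p ∈ D.e.swap.swap.side := D.e.swap.mem_swap_side_of_commute fun w hw => Subtype.ext
    (mem_centralizer_iff.1 hp _ (D.swap_sideX_le_N2 (D.swap.coe_mem_sideX.2 hw))).symm
  rwa [D.e.swap_swap_side] at h

/-- What centralizes both normal closures is `⟨z⟩`. -/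
theorem cent_inter : centralizer (D.N1 : Set X) ⊓ centralizer (D.N2 : Set X) ≤ D.zX := by
  haveI : Fact (Nat.Prime 2) := ⟨Nat.prime_two⟩
  set A := centralizer (D.N1 : Set X) ⊓ centralizer (D.N2 : Set X) with hA
  haveI : (centralizer (D.N1 : Set X)).Normal := inferInstance
  haveI : (centralizer (D.N2 : Set X)).Normal := inferInstance
  haveI : A.Normal := Subgroup.normal_inf_normal _ _
  have hAS : ∀ x ∈ A, x ∈ (S : Subgroup X) → x ∈ D.zX := fun x hx hxS => by
    have h1 : (⟨x, hxS⟩ : ↥(S : Subgroup X)) ∈ D.e.side := D.mem_side_of_cent hO hx.2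
    have h2 : (⟨x, hxS⟩ : ↥(S : Subgroup X)) ∈ D.e.swap.side :=
      D.swap.mem_side_of_cent hO (by rw [D.swap_N2 hO]; exact hx.1)
    exact D.mem_zX.2 ((D.e.side_inter h1 h2).imp (fun h => congrArg Subtype.val h)
      fun h => congrArg Subtype.val h)
  let P : Sylow 2 ↥A := ((S.isPGroup').comap_of_injective A.subtype A.subtype_injective :
    IsPGroup 2 ((S : Subgroup X).subgroupOf A)).toSylow (Grp.sylow_inf_normal_relIndex S A)
  have hPz : ∀ p : ↥A, p ∈ (P : Subgroup ↥A) → (p : X) ∈ D.zX := fun p hp => hAS p p.2 hp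
  have hPc : normalizer ((P : Subgroup ↥A) : Set ↥A) ≤ centralizer ((P : Subgroup ↥A) : Set ↥A) :=
    fun y _ => mem_centralizer_iff.2 fun p hp =>
      (Subtype.ext (mem_center_iff.1 (D.zX_center (hPz p hp)) (y : X))).symm
  set K := (MonoidHom.transferSylow P hPc).ker
  have hK : K = ⊥ := by
    refine le_bot_iff.1 ((Grp.le_pPrimeCore (p := 2) (N := K) inferInstance
      ((Nat.Prime.coprime_iff_not_dvd Nat.prime_two).2
        (MonoidHom.not_dvd_card_ker_transferSylow P hPc)).symm).trans ?_)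
    refine le_of_eq ((Subgroup.map_eq_bot_iff_of_injective _ A.subtype_injective).1 ?_)
    rw [Grp.pPrimeCore_map_eq, hO, bot_inf_eq]
  have hc := (MonoidHom.ker_transferSylow_isComplement' P hPc).card_mul
  rw [show (MonoidHom.transferSylow P hPc).ker = ⊥ from hK, Subgroup.card_bot, one_mul] at hc
  have htop : (P : Subgroup ↥A) = ⊤ := Subgroup.eq_top_of_card_eq _ hc
  exact fun x hx => hPz ⟨x, hx⟩ (htop ▸ Subgroup.mem_top _)

/-- An element of the derived group centralizing the first normal closure and moving the diagonal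
root of `z` of the second side. -/
theorem mover (hk : D.e.k = 2) : ∃ t ∈ commutator X, t ∈ centralizer (D.N1 : Set X) ∧
    t * (D.e.swap.dd D.e.q : X) * t⁻¹ ≠ D.e.swap.dd D.e.q ∧
    t * (D.e.swap.dd D.e.q : X) * t⁻¹ ≠ D.e.swap.dd (-D.e.q) := by
  obtain ⟨h, hd, hw⟩ := D.exists_fusion
  set x : X := (D.e.pt D.e.q 0 : X) with hx
  set f := ⁅h, x⁆ with hf
  have key : ∀ y : X, f * ((x * h) * y * (x * h)⁻¹) * f⁻¹ = (h * x) * y * (h * x)⁻¹ := fun y => by
    rw [hf, commutatorElement_def]; group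
  set d := (D.e.swap.dd D.e.q : X)
  set d₂ := (D.e.swap.dd (-D.e.q) : X)
  have hdinv : d⁻¹ = d₂ := by
    show _ = (D.e.swap.dd (-D.e.q) : X)
    rw [← D.e.swap.dd_inv]; rfl
  -- the second side is moved
  have hmove : f * d * f⁻¹ ≠ d ∧ f * d * f⁻¹ ≠ d₂ := by
    set w := (D.e.swap.ww (-D.e.q) : X)
    have hxd : ∀ c, x * (D.e.swap.dd c : X) * x⁻¹ = D.e.swap.dd c := fun c => by
      have : D.e.pt D.e.q 0 * D.e.swap.dd c * (D.e.pt D.e.q 0)⁻¹ = D.e.swap.dd c := by
        rw [D.e.swap_dd, D.e.conj_pt]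
      exact congrArg Subtype.val this
    have hxw : x * w * x⁻¹ = (D.e.swap.ww 0 : X) := by
      have h1 := D.e.swap.pt_conj_ww D.e.q 0 (-D.e.q)
      rw [show D.e.swap.pt D.e.q 0 = D.e.pt D.e.q 0 by rw [D.e.swap_pt, neg_zero],
        show -D.e.q + D.e.q + 0 = 0 by ring] at h1
      exact congrArg Subtype.val h1
    have hval : h * x * w * (h * x)⁻¹ = h * (D.e.swap.ww 0 : X) * h⁻¹ := by
      rw [← hxw]; group
    have hval2 : x * h * w * (x * h)⁻¹ = d ∨ x * h * w * (x * h)⁻¹ = d₂ := by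
      rw [show x * h * w * (x * h)⁻¹ = x * (h * w * h⁻¹) * x⁻¹ by group]
      rcases hw with hw | hw <;> rw [hw, hxd]
      exacts [Or.inl rfl, Or.inr rfl]
    have hfv := (key w).trans hval
    have hne : ¬ (h * (D.e.swap.ww 0 : X) * h⁻¹ = d ∨ h * (D.e.swap.ww 0 : X) * h⁻¹ = d₂) := by
      intro hh
      have hor : h * (D.e.swap.ww 0 : X) * h⁻¹ = h * w * h⁻¹ ∨
          h * (D.e.swap.ww 0 : X) * h⁻¹ = h * w⁻¹ * h⁻¹ := by
        have hinv : h * w⁻¹ * h⁻¹ = (h * w * h⁻¹)⁻¹ := by group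
        rw [hinv]
        rcases hh with hh | hh <;> rcases hw with hw | hw <;> rw [hh, hw]
        · exact Or.inl rfl
        · refine Or.inr ?_
          rw [← hdinv, inv_inv]
        · exact Or.inr hdinv.symm
        · exact Or.inl rfl
      rcases hor with h1 | h1 <;> have h2 := mul_left_cancel (mul_right_cancel h1)
      · have h3 := D.e.swap.ww_inj (Subtype.ext h2 : D.e.swap.ww 0 = D.e.swap.ww (-D.e.q))
        exact D.e.q_ne_neg (by
          have h4 : D.e.q = 0 := by linear_combination h3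
          rw [h4, neg_zero])
      · have h5 : D.e.swap.ww 0 = D.e.swap.ww (-D.e.q + D.e.m) := by
          refine Eq.trans ?_ (D.e.swap.ww_inv _)
          exact Subtype.ext h2
        have h6 := D.e.swap.ww_inj h5
        exact D.e.q_ne_neg (by linear_combination (2 : ZMod D.e.N) * h6 + D.e.m_add_m)
    constructor <;> intro he
    · apply hne
      rcases hval2 with hv | hv <;> rw [hv] at hfv
      · exact Or.inl (hfv.symm.trans he)
      · refine Or.inr (hfv.symm.trans ?_)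
        rw [← hdinv, ← conj_inv, he]
    · apply hne
      rcases hval2 with hv | hv <;> rw [hv] at hfv
      · exact Or.inr (hfv.symm.trans he)
      · refine Or.inl (hfv.symm.trans ?_)
        rw [← hdinv, ← conj_inv, he, ← hdinv, inv_inv]
  have hfX : f ∈ commutator X := Subgroup.commutator_mem_commutator (mem_top _) (mem_top _)
  -- adjust by an element of the first normal closure
  suffices hadj : ∃ r ∈ D.N1, r ∈ commutator X ∧ r⁻¹ * f ∈ centralizer (D.N1 : Set X) by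
    obtain ⟨r, hr, hrX, hrc⟩ := hadj
    refine ⟨r⁻¹ * f, mul_mem (inv_mem hrX) hfX, hrc, ?_, ?_⟩
    all_goals
      intro he
      have hfix : ∀ c : ZMod D.e.N, r * (D.e.swap.dd c : X) * r⁻¹ = D.e.swap.dd c := fun c =>
        mul_inv_eq_iff_eq_mul.2 (D.comm_eq hO hr
          (D.swap_sideX_le_N2 (D.swap.coe_mem_sideX.2 (D.e.swap.dd_mem c))))
      have h1 : f * d * f⁻¹ = r * (r⁻¹ * f * d * (r⁻¹ * f)⁻¹) * r⁻¹ := by group
      rw [he, hfix] at h1
    · exact hmove.1 h1
    · exact hmove.2 h1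
  rcases D.dichotomy hO with ⟨hN, -⟩ | ⟨F, hF, hFf, hodd, h3, ⟨e⟩⟩
  swap
  · obtain ⟨r, hr, hrc⟩ := Invol.GW.exists_inner_adjust hodd h3 D.N1 e hfX
    refine ⟨r, hr, ?_, hrc⟩
    have h1 := D.perfect_N1 hO h3 e
    have h2 : (commutator ↥D.N1).map D.N1.subtype ≤ commutator X := by
      rw [_root_.commutator_def, Subgroup.map_commutator]
      exact Subgroup.commutator_mono le_top le_top
    exact h2 ⟨⟨r, hr⟩, h1 ▸ mem_top _, rfl⟩
  -- the quaternion side
  have hq1 := D.e.q_eq_one hk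
  have hm2 : (2 : ZMod D.e.N) = D.e.m := by rw [← D.e.q_add_q, hq1]; norm_num
  obtain ⟨ε, hε2, hεd⟩ : ∃ ε : ZMod D.e.N, (ε = 1 ∨ ε = -1) ∧
      h * (D.e.dd 1 : X) * h⁻¹ = (D.e.dd ε : X) := by
    rw [hq1] at hd
    rcases hd with hd | hd
    exacts [⟨1, Or.inl rfl, hd⟩, ⟨-1, Or.inr rfl, hd⟩]
  have hdd : ∀ c, h * (D.e.dd c : X) * h⁻¹ = (D.e.dd (c * ε) : X) := fun c => by
    rw [← D.e.eq_pow_one c, SubgroupClass.coe_pow, ← conj_pow, hεd, ← SubgroupClass.coe_pow,
      D.e.dd_pow, ZMod.natCast_zmod_val]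
  obtain ⟨b, hb⟩ : ∃ b, h * (D.e.ww 0 : X) * h⁻¹ = (D.e.ww b : X) := by
    obtain ⟨p, hp, hpe⟩ : h * (D.e.ww 0 : X) * h⁻¹ ∈ D.sideX :=
      hN ▸ D.N1_normal.conj_mem _ (D.sideX_le_N1 (D.coe_mem_sideX.2 (D.e.ww_mem 0))) h
    change (p : X) = _ at hpe
    rcases D.e.side_sq_eq_z hp (D.sq_z h (D.e.ww_sq 0) hpe.symm) with hp' | hp' | ⟨b, hp'⟩
    · exfalso
      rw [hp', ← show h * (D.e.dd ε : X) * h⁻¹ = (D.e.dd D.e.q : X) by
        rw [hdd, hq1]; rcases hε2 with rfl | rfl <;> simp] at hpe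
      exact D.e.ww_ne_dd 0 ε (Subtype.ext (mul_left_cancel (mul_right_cancel hpe)).symm)
    · exfalso
      rw [hp', ← show h * (D.e.dd (-ε) : X) * h⁻¹ = (D.e.dd (-D.e.q) : X) by
        rw [hdd, hq1]; rcases hε2 with rfl | rfl <;> simp] at hpe
      exact D.e.ww_ne_dd 0 (-ε) (Subtype.ext (mul_left_cancel (mul_right_cancel hpe)).symm)
    · exact ⟨b, by rw [← hpe, hp']⟩
  have hxdd : ∀ c, x * (D.e.dd c : X) * x⁻¹ = (D.e.dd c : X) := fun c =>
    congrArg Subtype.val (D.e.pt_conj_dd D.e.q 0 c)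
  have hxww : ∀ a, x * (D.e.ww a : X) * x⁻¹ = (D.e.ww (a + 1) : X) := fun a => by
    rw [← hq1, ← add_zero (a + D.e.q)]
    exact congrArg Subtype.val (D.e.pt_conj_ww D.e.q 0 a)
  have hhww : ∀ a, h * (D.e.ww a : X) * h⁻¹ = (D.e.ww (a * ε + b) : X) := fun a => by
    rw [D.e.ww_split a, Subgroup.coe_mul, ← D.e.dd_mul_ww (a * ε) b, Subgroup.coe_mul, ← hdd, ← hb]
    group
  have hε1 : ε * ε = 1 := by rcases hε2 with rfl | rfl <;> ring
  have hfd : ∀ c, f * (D.e.dd c : X) * f⁻¹ = (D.e.dd c : X) := fun c => by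
    have h1 := key (D.e.dd (c * ε) : X)
    have e1 : (x * h) * (D.e.dd (c * ε) : X) * (x * h)⁻¹ = (D.e.dd c : X) := by
      rw [show (x * h) * (D.e.dd (c * ε) : X) * (x * h)⁻¹ =
        x * (h * (D.e.dd (c * ε) : X) * h⁻¹) * x⁻¹ by group, hdd, hxdd, mul_assoc, hε1, mul_one]
    have e2 : (h * x) * (D.e.dd (c * ε) : X) * (h * x)⁻¹ = (D.e.dd c : X) := by
      rw [show (h * x) * (D.e.dd (c * ε) : X) * (h * x)⁻¹ =
        h * (x * (D.e.dd (c * ε) : X) * x⁻¹) * h⁻¹ by group, hxdd, hdd, mul_assoc, hε1, mul_one]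
    rwa [e1, e2] at h1
  have hfw : f * (D.e.ww 0 : X) * f⁻¹ = (D.e.ww (ε - 1) : X) := by
    have h1 := key (D.e.ww (-(b + 1) * ε) : X)
    rw [show (x * h) * (D.e.ww (-(b + 1) * ε) : X) * (x * h)⁻¹ =
        x * (h * (D.e.ww (-(b + 1) * ε) : X) * h⁻¹) * x⁻¹ by group, hhww, hxww,
      show (h * x) * (D.e.ww (-(b + 1) * ε) : X) * (h * x)⁻¹ =
        h * (x * (D.e.ww (-(b + 1) * ε) : X) * x⁻¹) * h⁻¹ by group, hxww, hhww,
      show -(b + 1) * ε * ε + b + 1 = 0 by linear_combination (-(b + 1)) * hε1,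
      show (-(b + 1) * ε + 1) * ε + b = ε - 1 by linear_combination (-(b + 1)) * hε1] at h1
    exact h1
  obtain ⟨r, hr, hrd, hrw⟩ : ∃ r ∈ D.e.side, r * D.e.dd 1 * r⁻¹ = D.e.dd 1 ∧
      r * D.e.ww 0 * r⁻¹ = D.e.ww (ε - 1) := by
    rcases hε2 with rfl | rfl
    · exact ⟨1, one_mem _, by group, by rw [sub_self]; group⟩
    · refine ⟨D.e.dd 1, D.e.dd_mem 1, by group, ?_⟩
      rw [D.e.dd_mul_ww, D.e.dd_inv, D.e.ww_mul_dd]
      congr 1
      linear_combination (2 : ZMod D.e.N) * hm2 + D.e.m_add_m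
  refine ⟨r, D.sideX_le_N1 (D.coe_mem_sideX.2 hr), D.side_le_commutator (D.coe_mem_sideX.2 hr), ?_⟩
  have hc1 : ∀ y : X, f * y * f⁻¹ = (r : X) * y * (r : X)⁻¹ →
      (r : X)⁻¹ * f ∈ centralizer ({y} : Set X) := fun y hy => by
    rw [mem_centralizer_singleton_iff]
    calc (r : X)⁻¹ * f * y = (r : X)⁻¹ * (f * y * f⁻¹) * f := by group
      _ = y * ((r : X)⁻¹ * f) := by rw [hy]; group
  have h1 := hc1 _ ((hfd 1).trans (congrArg Subtype.val hrd).symm)
  have h2 := hc1 _ (hfw.trans (congrArg Subtype.val hrw).symm)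
  have hle : D.e.side ≤ (centralizer ({(r : X)⁻¹ * f} : Set X)).comap (S : Subgroup X).subtype := by
    refine D.e.side_le fun a => ?_
    rw [D.e.ww_split a, ← D.e.eq_pow_one a]
    refine mul_mem (pow_mem ?_ _) ?_
    · exact mem_centralizer_singleton_iff.2 (mem_centralizer_singleton_iff.1 h1).symm
    · exact mem_centralizer_singleton_iff.2 (mem_centralizer_singleton_iff.1 h2).symm
  refine mem_centralizer_iff.2 fun y hy => ?_
  rw [hN] at hy
  obtain ⟨p, hp, rfl⟩ := hy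
  exact mem_centralizer_singleton_iff.1 (hle hp)

/-- The component of a solvable side. -/
theorem solvable_side (hN : D.N1 = D.sideX) (hk : D.e.k = 2) :
    centralizer (D.N2 : Set X) ≤ commutator X ∧
      Nonempty (↥(centralizer (D.N2 : Set X)) ≃* Matrix.SpecialLinearGroup (Fin 2) (ZMod 3)) ∧
      (∀ g ∈ commutator X, ∃ x ∈ centralizer (D.N2 : Set X),
        x⁻¹ * g ∈ centralizer (D.N1 : Set X)) ∧
      ∀ a ∈ centralizer (D.N2 : Set X), a ^ 3 ∈ D.N1 := by
  haveI : Fact (Nat.Prime 2) := ⟨Nat.prime_two⟩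
  set T1 := centralizer (D.N2 : Set X) with hT1
  haveI hT1n : T1.Normal := inferInstance
  obtain ⟨e0⟩ := D.e.nonempty_side_quat
  have eQ : Nonempty (↥D.N1 ≃* QuaternionGroup 2) := by
    have h2 : 2 ^ (D.e.k - 1) = 2 := by rw [hk]; norm_num
    rw [hN]
    rw [h2] at e0
    exact ⟨(D.e.side.equivMapOfInjective _ (Subgroup.subtype_injective _)).symm.trans e0⟩
  obtain ⟨eQ⟩ := eQ
  let θ : X →* MulAut ↥D.N1 := MulAut.conjNormal
  have hker : θ.ker = centralizer (D.N1 : Set X) := by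
    ext g
    rw [MonoidHom.mem_ker, mem_centralizer_iff, MulEquiv.ext_iff]
    refine ⟨fun h y hy => ?_, fun h y => Subtype.ext ?_⟩
    · have h1 := congrArg Subtype.val (h ⟨y, hy⟩)
      rw [MulAut.conjNormal_apply] at h1
      exact (mul_inv_eq_iff_eq_mul.1 h1).symm
    · rw [MulAut.conjNormal_apply, ← h y y.2, mul_inv_cancel_right]
      rfl
  have haut : Nat.card (MulAut ↥D.N1) ∣ 24 := by
    rw [Nat.card_congr (MulAut.congr eQ).toEquiv]
    exact Block.SharpTwo.q8_aut_card_dvd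
  have hsT : D.sideX ≤ T1 := hN ▸ D.N1_le_cent hO
  have hside8 : Nat.card ↥D.sideX = 8 := by
    rw [← hN, Nat.card_congr eQ.toEquiv, Nat.card_eq_fintype_card]; rfl
  have hkT : Nat.card ↥(θ.comp T1.subtype).ker = 2 := by
    have h : (θ.comp T1.subtype).ker = D.zX.subgroupOf T1 := by
      ext g
      rw [MonoidHom.mem_ker, MonoidHom.comp_apply, ← MonoidHom.mem_ker, hker, mem_subgroupOf]
      refine ⟨fun h => D.cent_inter hO ⟨h, g.2⟩, fun h => mem_centralizer_iff.2 fun y _ => ?_⟩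
      exact mem_center_iff.1 (D.zX_center h) y
    rw [h, Nat.card_congr (Subgroup.subgroupOfEquivOfLe (D.zX_le_sideX.trans hsT)).toEquiv, D.card_zX]
  set A := (θ.comp T1.subtype).range
  have hTA : Nat.card ↥T1 = Nat.card ↥A * 2 := by
    rw [(θ.comp T1.subtype).ker.card_eq_card_quotient_mul_card_subgroup,
      Nat.card_congr (QuotientGroup.quotientKerEquivRange _).toEquiv, hkT]
  have h48 : Nat.card ↥T1 ∣ 48 := by
    rw [hTA, show (48 : ℕ) = 24 * 2 from rfl]
    exact Nat.mul_dvd_mul_right ((Subgroup.card_subgroup_dvd_card A).trans haut) 2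
  have h8 : 8 ∣ Nat.card ↥T1 := hside8 ▸ Subgroup.card_dvd_of_le hsT
  have hTS : ∀ x ∈ T1, x ∈ (S : Subgroup X) → x ∈ D.sideX := fun x hx hxS =>
    D.coe_mem_sideX.2 (D.mem_side_of_cent hO (p := ⟨x, hxS⟩) hx)
  have h16 : ¬ 2 ^ 4 ∣ Nat.card ↥T1 := fun h => by
    obtain ⟨U, hU⟩ := Sylow.exists_subgroup_card_pow_prime 2 h
    have hp : IsPGroup 2 ↥(U.map T1.subtype) :=
      IsPGroup.of_card (n := 4) (by rw [Subgroup.card_map_of_injective T1.subtype_injective, hU])
    obtain ⟨c, hc⟩ := Invol.exists_conj_subset_sylow hp S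
    have hle : (U.map T1.subtype).map (MulAut.conj c).toMonoidHom ≤ D.sideX := by
      rintro _ ⟨y, hy, rfl⟩
      exact hTS _ (hT1n.conj_mem y (Subgroup.map_subtype_le _ hy) c) (hc y hy)
    have hcard := Subgroup.card_le_of_le hle
    rw [Subgroup.card_map_of_injective (MulAut.conj c).injective,
      Subgroup.card_map_of_injective T1.subtype_injective, hU, hside8] at hcard
    norm_num at hcard
  obtain ⟨t, htX, htc, ht1, ht2⟩ := D.swap.mover hO hk
  rw [show D.swap.N1 = D.N2 from rfl] at htc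
  rw [show D.swap.e.swap.dd D.swap.e.q = D.e.dd D.e.q from D.e.swap_swap_dd D.e.q] at ht1 ht2
  rw [show D.swap.e.swap.dd (-D.swap.e.q) = D.e.dd (-D.e.q) from D.e.swap_swap_dd (-D.e.q)] at ht2
  have htside : t ∉ D.sideX := fun h => by
    obtain ⟨p, hp, rfl⟩ := h
    rcases D.e.side_conj_dd_q hp with h' | h'
    · exact ht1 (congrArg Subtype.val h')
    · exact ht2 (congrArg Subtype.val h')
  have h24 : Nat.card ↥T1 = 24 := by
    obtain ⟨j, hj⟩ := h8
    rw [hj] at h48 h16 ⊢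
    have hj6 : j ∣ 6 := Nat.dvd_of_mul_dvd_mul_left (k := 8) (by norm_num) h48
    have hj1 : j ≠ 1 := fun h => htside ((Subgroup.eq_of_le_of_card_ge hsT (by
      rw [hside8, hj, h])).symm ▸ htc)
    have hle := Nat.le_of_dvd (by norm_num) hj6
    have hj2 : ¬ 2 ∣ j := fun h => h16 (by
      obtain ⟨i, rfl⟩ := h; exact ⟨i, by ring⟩)
    interval_cases j <;> omega
  have hsup : D.sideX ⊔ zpowers t = T1 := by
    have hle : D.sideX ⊔ zpowers t ≤ T1 := sup_le hsT (zpowers_le.2 htc)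
    refine Subgroup.eq_of_le_of_card_ge hle ?_
    have hd1 : 8 ∣ Nat.card ↥(D.sideX ⊔ zpowers t : Subgroup X) :=
      hside8 ▸ Subgroup.card_dvd_of_le le_sup_left
    have hd2 := h24 ▸ Subgroup.card_dvd_of_le hle
    obtain ⟨j, hj⟩ := hd1
    rw [hj] at hd2
    have hj3 : j ∣ 3 := Nat.dvd_of_mul_dvd_mul_left (k := 8) (by norm_num) hd2
    rcases (Nat.dvd_prime Nat.prime_three).1 hj3 with rfl | rfl
    · exfalso
      refine htside ?_
      rw [Subgroup.eq_of_le_of_card_ge (le_sup_left (a := D.sideX) (b := zpowers t))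
        (by rw [hside8, hj])]
      exact le_sup_right (a := D.sideX) (mem_zpowers t)
    · rw [hj, h24]
  refine ⟨?_, ?_, ?_, ?_⟩
  · rw [← hsup]
    exact sup_le D.side_le_commutator (zpowers_le.2 htX)
  · -- recognition
    have hN1T : D.N1 ≤ T1 := D.N1_le_cent hO
    let P : Sylow 2 ↥T1 := ((S.isPGroup').comap_of_injective T1.subtype T1.subtype_injective :
      IsPGroup 2 ((S : Subgroup X).subgroupOf T1)).toSylow (Grp.sylow_inf_normal_relIndex S T1)
    have hP : (P : Subgroup ↥T1) = D.N1.subgroupOf T1 := by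
      refine le_antisymm (fun x hx => mem_subgroupOf.2 (hN.symm ▸ hTS _ x.2 hx)) fun x hx => ?_
      exact D.sideX_le (hN ▸ mem_subgroupOf.1 hx)
    let eP : (P : Subgroup ↥T1) ≃* QuaternionGroup (2 ^ 1) :=
      ((MulEquiv.subgroupCongr hP).trans (Subgroup.subgroupOfEquivOfLe hN1T)).trans eQ
    have hOK : Cfsg.pPrimeCore 2 ↥T1 = ⊥ := by
      refine (Subgroup.map_eq_bot_iff_of_injective _ T1.subtype_injective).1 ?_
      rw [Grp.pPrimeCore_map_eq, hO, bot_inf_eq]
    rcases S0106.result P 1 le_rfl ⟨eP⟩ with ⟨R, N, hNn, hcompl⟩ | ⟨B, C, hC, ⟨f⟩⟩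
    · exfalso
      have h1 := hcompl.card_mul
      rw [Nat.card_congr (Sylow.equiv R P).toEquiv, Nat.card_congr eP.toEquiv,
        Nat.card_eq_fintype_card (α := QuaternionGroup (2 ^ 1)), QuaternionGroup.card, h24] at h1
      have hN3 : Nat.card N = 3 := by omega
      have hN1 : N = ⊥ := eq_bot_iff.2 ((Grp.le_pPrimeCore hNn (by rw [hN3]; norm_num)).trans hOK.le)
      rw [hN1, Subgroup.card_bot] at hN3
      omega
    · have hSL : Nat.card (Matrix.SpecialLinearGroup (Fin 2) (ZMod 3)) = 24 := by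
        rw [Fus.PSLTwo.natCard_SL_two, ZMod.card]
      have h1 := (C.subgroupOf B).card_eq_card_quotient_mul_card_subgroup
      rw [Nat.card_congr f.toEquiv, hSL] at h1
      have h2 := Subgroup.card_le_card_group B
      rw [h24] at h2
      have h3 : 0 < Nat.card (C.subgroupOf B) := Nat.card_pos
      have hB1 : Nat.card (C.subgroupOf B) = 1 := by nlinarith
      rw [hB1, mul_one] at h1
      have hA : B = ⊤ := Subgroup.eq_top_of_card_eq _ (by rw [h1, h24])
      have hbot : C.subgroupOf B = ⊥ := Subgroup.card_eq_one.1 hB1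
      exact ⟨(Subgroup.topEquiv.symm.trans ((MulEquiv.subgroupCongr hA.symm).trans
        (QuotientGroup.quotientBot.symm.trans (QuotientGroup.quotientMulEquivOfEq hbot.symm)))).trans f⟩
  · intro g hg
    have hA : Nat.card ↥A = 12 := by omega
    have hAR : A ≤ θ.range := by rintro _ ⟨y, rfl⟩; exact ⟨y, rfl⟩
    have hAn : A = T1.map θ := by
      show (θ.comp T1.subtype).range = _
      rw [MonoidHom.range_comp, Subgroup.range_subtype]
    haveI : (A.comap θ).Normal := by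
      rw [hAn, Subgroup.comap_map_eq]
      infer_instance
    have hle : commutator X ≤ A.comap θ := by
      have hidx : (A.comap θ).index = A.relIndex θ.range := Subgroup.index_comap A θ
      have hr := (A.subgroupOf θ.range).card_mul_index
      rw [Nat.card_congr (Subgroup.subgroupOfEquivOfLe hAR).toEquiv, hA] at hr
      change 12 * A.relIndex θ.range = _ at hr
      rw [← hidx] at hr
      have hd : 12 * (A.comap θ).index ∣ 12 * 2 := hr ▸ (Subgroup.card_subgroup_dvd_card θ.range).trans haut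
      rcases (Nat.dvd_prime Nat.prime_two).1 (Nat.dvd_of_mul_dvd_mul_left (by norm_num) hd) with h | h
      · rw [Subgroup.index_eq_one.1 h]; exact le_top
      · exact Transfer.commutator_le_of_index_prime h
    obtain ⟨⟨x, hx⟩, hxg⟩ := hle hg
    refine ⟨x, hx, ?_⟩
    rw [← hker, MonoidHom.mem_ker, map_mul, map_inv]
    rw [show θ g = θ x from hxg.symm, inv_mul_cancel]
  · intro a ha
    haveI : (D.N1.subgroupOf T1).Normal := D.N1_normal.subgroupOf _
    have hidx : (D.N1.subgroupOf T1).index = 3 := by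
      have h1 := (D.N1.subgroupOf T1).card_mul_index
      rw [Nat.card_congr (Subgroup.subgroupOfEquivOfLe (D.N1_le_cent hO)).toEquiv, h24,
        show Nat.card ↥D.N1 = 8 by rw [hN, hside8]] at h1
      omega
    have h := Subgroup.pow_index_mem (D.N1.subgroupOf T1) (⟨a, ha⟩ : ↥T1)
    rw [hidx] at h
    exact h

end Cfg

end Cfsg.Agent.Grp.GTwoSylow
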